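-- Class functions that depend only on the `3`-part, for a Sylow `3`-subgroup `R` of order 9.
--
-- * `sect`: the lift of a fusion-stable function on `R`
-- * `sect_isGeneralizedCharacter`: it is a generalized character when the function is one
-- * `classInner_sect`: its inner products, in terms of the weights `omega`
-- * `nine_mul_reg`: the weight when the normaliser fixes nothing extra
import Cfsg.Agent.EqLemmas
import Cfsg.Agent.Lib.Char.PRegular
import Cfsg.Agent.Lib.Char.Inner
import Mathlib.GroupTheory.Transfer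

set_option autoImplicit false
set_option linter.unusedSectionVars false

namespace Cfsg.Agent.SmallOrders.NineTwoPrimes

open Cfsg
open scoped ComplexConjugate

variable {G : Type*} [Group G]

/-- `v` is constant on `G`-classes inside `R` -/
def Stable {S : Subgroup G} {α : Type*} (v : S → α) : Prop :=
  ∀ r s : S, IsConj (r : G) (s : G) → v r = v s

open Classical in
/-- the class function that extends `v` from `S` -/
noncomputable def lift (S : Subgroup G) (v : S → ℂ) (g : G) : ℂ :=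
  if h : ∃ r : S, IsConj g (r : G) then v h.choose else 0

theorem lift_of_conj {S : Subgroup G} {v : S → ℂ} (hv : Stable v) {g : G} {r : S}
    (h : IsConj g (r : G)) : lift S v g = v r := by
  rw [lift, dif_pos ⟨r, h⟩]
  exact hv _ _ ((Exists.choose_spec (⟨r, h⟩ : ∃ r : S, IsConj g (r : G))).symm.trans h)

theorem lift_conj {S : Subgroup G} {v : S → ℂ} (hv : Stable v) {g g' : G} (h : IsConj g g') :
    lift S v g = lift S v g' := by
  by_cases hg : ∃ r : S, IsConj g (r : G)
  · obtain ⟨r, hr⟩ := hg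
    rw [lift_of_conj hv hr, lift_of_conj hv (h.symm.trans hr)]
  · rw [lift, dif_neg hg, lift, dif_neg]
    exact fun ⟨r, hr⟩ => hg ⟨r, h.trans hr⟩

/-- the function of the `3`-part attached to `v` -/
noncomputable def sect (S : Subgroup G) (k : ℕ) (v : S → ℂ) (g : G) : ℂ :=
  lift S v (g ^ k)

/-- the number of `3`-regular elements commuting with `y` -/
noncomputable def reg (y : G) : ℕ := Nat.card {z : G // Commute y z ∧ ¬ 3 ∣ orderOf z}

/-- the number of conjugates of `y` inside `S` -/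
noncomputable def cls (S : Subgroup G) (y : G) : ℕ := Nat.card {r : S // IsConj (r : G) y}

/-- the weight of the `3`-section of `y` -/
noncomputable def omega (S : Subgroup G) (y : G) : ℂ :=
  (reg y : ℂ) / ((cls S y : ℂ) * Nat.card (Subgroup.centralizer ({y} : Set G)))

section nine

variable [Finite G] {M k : ℕ}

/-- conjugation into a Sylow subgroup of order 9 -/
theorem exists_conj_of_pow_nine [Fact (Nat.Prime 3)] (R : Sylow 3 G) {y : G} (hy : y ^ 9 = 1) :
    ∃ r : (R : Subgroup G), IsConj y (r : G) := by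
  obtain ⟨i, -, hi⟩ := (Nat.dvd_prime_pow Nat.prime_three).mp
    (orderOf_dvd_of_pow_eq_one (show y ^ 3 ^ 2 = 1 by simpa using hy))
  obtain ⟨Q, hQ⟩ := (IsPGroup.of_card (n := i) (by rw [Nat.card_zpowers, hi]) :
    IsPGroup 3 (Subgroup.zpowers y)).exists_le_sylow
  obtain ⟨c, hc⟩ := MulAction.exists_smul_eq G Q R
  refine ⟨⟨c * y * c⁻¹, ?_⟩, isConj_iff.2 ⟨c, rfl⟩⟩
  rw [← hc]
  exact ⟨y, hQ (Subgroup.mem_zpowers y), rfl⟩

theorem pow_nine_of_mem [Fact (Nat.Prime 3)] {R : Sylow 3 G}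
    (hR : Nat.card (R : Subgroup G) = 9) {r : G} (hr : r ∈ (R : Subgroup G)) : r ^ 9 = 1 := by
  have := congrArg Subtype.val
    (show (⟨r, hr⟩ : (R : Subgroup G)) ^ 9 = 1 by rw [← hR]; exact pow_card_eq_one')
  simpa using this

theorem cls_pos [Fact (Nat.Prime 3)] (R : Sylow 3 G) {y : G} (hy : y ^ 9 = 1) :
    0 < cls (R : Subgroup G) y := by
  obtain ⟨r, hr⟩ := exists_conj_of_pow_nine R hy
  have : Nonempty {r : (R : Subgroup G) // IsConj (r : G) y} := ⟨⟨r, hr.symm⟩⟩
  exact Nat.card_pos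

/-- the exponent that extracts `3`-parts -/
theorem exists_exponent (hM : ¬ 3 ∣ M) : ∃ k, k ≡ 1 [MOD 9] ∧ M ∣ k := by
  obtain ⟨k, h1, h2⟩ := Nat.chineseRemainder
    (show Nat.Coprime 9 M from (Nat.Coprime.pow_left 2
      (Nat.prime_three.coprime_iff_not_dvd.2 hM) : Nat.Coprime (3 ^ 2) M)) 1 0
  exact ⟨k, h1, Nat.modEq_zero_iff_dvd.1 h2⟩

theorem pow_exponent_nine (hcard : Nat.card G = 9 * M) (hk0 : M ∣ k) (g : G) :
    (g ^ k) ^ 9 = 1 := by
  obtain ⟨c, hc⟩ := hk0
  rw [← pow_mul, hc, show M * c * 9 = 9 * M * c by ring, pow_mul, ← hcard, pow_card_eq_one', one_pow]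

theorem pow_exponent_of_nine (hk1 : k ≡ 1 [MOD 9]) {y : G} (hy : y ^ 9 = 1) : y ^ k = y := by
  rw [pow_eq_pow_mod k hy, hk1, ← pow_eq_pow_mod 1 hy, pow_one]

theorem pow_exponent_of_regular (hcard : Nat.card G = 9 * M) (hk0 : M ∣ k) {z : G}
    (hz : ¬ 3 ∣ orderOf z) : z ^ k = 1 := by
  have h1 : orderOf z ∣ 3 ^ 2 * M := hcard ▸ orderOf_dvd_natCard z
  exact orderOf_dvd_iff_pow_eq_one.1 ((Nat.Coprime.dvd_of_dvd_mul_left
    ((Nat.prime_three.coprime_iff_not_dvd.2 hz).pow_left 2).symm h1).trans hk0)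

theorem regular_of_pow_exponent (hk1 : k ≡ 1 [MOD 9]) {z : G} (hz : z ^ k = 1) :
    ¬ 3 ∣ orderOf z := fun h => by
  have h3 : 3 ∣ k := h.trans (orderOf_dvd_of_pow_eq_one hz)
  have h1 := hk1.of_dvd (show 3 ∣ 9 by norm_num)
  rw [Nat.ModEq, Nat.mod_eq_zero_of_dvd (Nat.dvd_of_mod_eq_zero (Nat.mod_eq_zero_of_dvd h3))] at h1
  norm_num at h1

theorem card_fiber (hcard : Nat.card G = 9 * M) (hk0 : M ∣ k) (hk1 : k ≡ 1 [MOD 9]) {y : G}
    (hy : y ^ 9 = 1) : Nat.card {g : G // g ^ k = y} = reg y := by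
  refine Nat.card_congr
    { toFun := fun g => ⟨y⁻¹ * g, ?_, ?_⟩
      invFun := fun z => ⟨y * z, ?_⟩
      left_inv := fun g => Subtype.ext (mul_inv_cancel_left y g)
      right_inv := fun z => Subtype.ext (inv_mul_cancel_left y (z : G)) }
  · have hc : Commute y (g : G) := by
      have h := (Commute.refl (g : G)).pow_left k
      rwa [g.2] at h
    exact (Commute.refl y).inv_right.mul_right hc
  · refine regular_of_pow_exponent hk1 ?_
    have hc : Commute y (g : G) := by
      have h := (Commute.refl (g : G)).pow_left k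
      rwa [g.2] at h
    rw [hc.inv_left.mul_pow, inv_pow, pow_exponent_of_nine hk1 hy, g.2, inv_mul_cancel]
  · rw [z.2.1.mul_pow, pow_exponent_of_nine hk1 hy, pow_exponent_of_regular hcard hk0 z.2.2,
      mul_one]

theorem card_conj_fiber (r y : G) [Decidable (IsConj r y)] :
    Nat.card {x : G // x * r * x⁻¹ = y} =
      if IsConj r y then Nat.card (Subgroup.centralizer ({y} : Set G)) else 0 := by
  split_ifs with h
  · obtain ⟨x₀, hx₀⟩ := isConj_iff.1 h
    refine Nat.card_congr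
      { toFun := fun x => ⟨x * x₀⁻¹, ?_⟩
        invFun := fun c => ⟨c * x₀, ?_⟩
        left_inv := fun x => Subtype.ext (inv_mul_cancel_right (x : G) x₀)
        right_inv := fun c => Subtype.ext (mul_inv_cancel_right (c : G) x₀) }
    · rw [Subgroup.mem_centralizer_singleton_iff, ← mul_inv_eq_iff_eq_mul]
      calc (x : G) * x₀⁻¹ * y * ((x : G) * x₀⁻¹)⁻¹
          = (x : G) * x₀⁻¹ * (x₀ * r * x₀⁻¹) * ((x : G) * x₀⁻¹)⁻¹ := by rw [hx₀]
        _ = (x : G) * r * (x : G)⁻¹ := by group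
        _ = y := x.2
    · have := Subgroup.mem_centralizer_singleton_iff.1 c.2
      rw [← mul_inv_eq_iff_eq_mul] at this
      calc (c : G) * x₀ * r * ((c : G) * x₀)⁻¹
          = (c : G) * (x₀ * r * x₀⁻¹) * (c : G)⁻¹ := by group
        _ = (c : G) * y * (c : G)⁻¹ := by rw [hx₀]
        _ = y := this
  · rw [Nat.card_eq_zero]
    exact Or.inl ⟨fun x => h (isConj_iff.2 ⟨x, x.2⟩)⟩

/-- Summing a class function of the `3`-part. -/
theorem sum_pow [Fintype G] [Fact (Nat.Prime 3)] (R : Sylow 3 G) [Fintype (R : Subgroup G)]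
    (hR : Nat.card (R : Subgroup G) = 9) (hcard : Nat.card G = 9 * M) (hk0 : M ∣ k)
    (hk1 : k ≡ 1 [MOD 9]) {φ : G → ℂ} (hφ : IsClassFunction G φ) :
    ∑ g, φ (g ^ k) =
      (Nat.card G : ℂ) * ∑ r : (R : Subgroup G), φ r * omega (R : Subgroup G) r := by
  classical
  set F : G → ℂ := fun y => φ y * omega (R : Subgroup G) y with hF
  have hFc : ∀ g x : G, F (x * g * x⁻¹) = F g := by
    intro g x
    have h : IsConj g (x * g * x⁻¹) := isConj_iff.2 ⟨x, rfl⟩
    have e1 : cls (R : Subgroup G) (x * g * x⁻¹) = cls (R : Subgroup G) g :=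
      Nat.card_congr (Equiv.subtypeEquivRight fun r =>
        ⟨fun hh => hh.trans h.symm, fun hh => hh.trans h⟩)
    have e2 : reg (x * g * x⁻¹) = reg g := by
      refine Nat.card_congr (Equiv.subtypeEquiv (MulAut.conj x⁻¹).toEquiv fun z => ?_)
      have e : (MulAut.conj x⁻¹).toEquiv z = x⁻¹ * z * x := by simp
      have eo : orderOf ((MulAut.conj x⁻¹).toEquiv z) = orderOf z :=
        MulEquiv.orderOf_eq (MulAut.conj x⁻¹) z
      rw [eo, e]
      refine and_congr ⟨fun hh => ?_, fun hh => ?_⟩ Iff.rfl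
      · have := hh.map (MulAut.conj x⁻¹).toMonoidHom
        simpa [mul_assoc] using this
      · have := hh.map (MulAut.conj x).toMonoidHom
        simpa [mul_assoc] using this
    have e3 : Nat.card (Subgroup.centralizer ({x * g * x⁻¹} : Set G)) =
        Nat.card (Subgroup.centralizer ({g} : Set G)) := by
      refine Nat.card_congr (Equiv.subtypeEquiv (MulAut.conj x⁻¹).toEquiv fun z => ?_)
      rw [Subgroup.mem_centralizer_singleton_iff, Subgroup.mem_centralizer_singleton_iff]
      constructor <;> intro hh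
      · have := congrArg (MulAut.conj x⁻¹) hh
        simpa [mul_assoc] using this
      · have := congrArg (MulAut.conj x) hh
        simpa [mul_assoc] using this
    simp only [hF, hφ g x, omega, e1, e2, e3]
  have h1 : ∑ g, φ (g ^ k) = ∑ y, if y ^ 9 = 1 then φ y * (reg y : ℂ) else 0 := by
    rw [← Finset.sum_fiberwise Finset.univ (fun g : G => g ^ k) fun g => φ (g ^ k)]
    refine Finset.sum_congr rfl fun y _ => ?_
    rw [Finset.sum_congr rfl (fun g hg => by rw [(Finset.mem_filter.1 hg).2] :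
        ∀ g ∈ Finset.univ.filter (fun g : G => g ^ k = y), φ (g ^ k) = φ y),
      Finset.sum_const, nsmul_eq_mul, ← Fintype.card_subtype, ← Nat.card_eq_fintype_card]
    split_ifs with hy
    · rw [card_fiber hcard hk0 hk1 hy, mul_comm]
    · have : IsEmpty {g : G // g ^ k = y} :=
        ⟨fun g => hy (g.2 ▸ pow_exponent_nine hcard hk0 (g : G))⟩
      simp
  have h2 : ∑ r : (R : Subgroup G), ∑ x : G, F (x * r * x⁻¹) =
      ∑ y, if y ^ 9 = 1 then φ y * (reg y : ℂ) else 0 := by
    have e : ∀ r : (R : Subgroup G), ∑ x : G, F (x * r * x⁻¹) = ∑ y, (if IsConj (r : G) y then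
        (Nat.card (Subgroup.centralizer ({y} : Set G)) : ℂ) * F y else 0) := fun r => by
      rw [← Finset.sum_fiberwise Finset.univ (fun x : G => x * r * x⁻¹)]
      refine Finset.sum_congr rfl fun y _ => ?_
      rw [Finset.sum_congr rfl (fun x hx => by rw [(Finset.mem_filter.1 hx).2] :
          ∀ x ∈ Finset.univ.filter (fun x : G => x * r * x⁻¹ = y), F (x * r * x⁻¹) = F y),
        Finset.sum_const, nsmul_eq_mul, ← Fintype.card_subtype, ← Nat.card_eq_fintype_card,
        card_conj_fiber]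
      split_ifs <;> simp
    simp only [e]
    rw [Finset.sum_comm]
    refine Finset.sum_congr rfl fun y _ => ?_
    rw [← Finset.sum_filter, Finset.sum_const, nsmul_eq_mul, ← Fintype.card_subtype,
      ← Nat.card_eq_fintype_card]
    show (cls (R : Subgroup G) y : ℂ) * _ = _
    split_ifs with hy
    · have hc : (cls (R : Subgroup G) y : ℂ) ≠ 0 := Nat.cast_ne_zero.2 (cls_pos R hy).ne'
      have hC : (Nat.card (Subgroup.centralizer ({y} : Set G)) : ℂ) ≠ 0 :=
        Nat.cast_ne_zero.2 Nat.card_pos.ne'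
      simp only [hF, NineTwoPrimes.omega]
      field_simp
    · have : cls (R : Subgroup G) y = 0 := by
        rw [cls, Nat.card_eq_zero]
        refine Or.inl ⟨fun r => hy ?_⟩
        obtain ⟨c, hc⟩ := isConj_iff.1 r.2
        rw [← hc, conj_pow, pow_nine_of_mem hR r.1.2, mul_one, mul_inv_cancel]
      simp [this]
  rw [h1, ← h2, Finset.mul_sum]
  refine Finset.sum_congr rfl fun r _ => ?_
  rw [Finset.sum_congr rfl (fun x _ => hFc (r : G) x), Finset.sum_const, Finset.card_univ,
    nsmul_eq_mul, ← Nat.card_eq_fintype_card]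

theorem classInner_sect [Fintype G] [Fact (Nat.Prime 3)] (R : Sylow 3 G)
    [Fintype (R : Subgroup G)] (hR : Nat.card (R : Subgroup G) = 9)
    (hcard : Nat.card G = 9 * M) (hk0 : M ∣ k) (hk1 : k ≡ 1 [MOD 9])
    {v w : ↥(R : Subgroup G) → ℂ} (hv : Stable v) (hw : Stable w) :
    classInner (sect (R : Subgroup G) k v) (sect (R : Subgroup G) k w) =
      ∑ r : (R : Subgroup G), v r * conj (w r) * omega (R : Subgroup G) r := by
  have hφ : IsClassFunction G fun y => lift (R : Subgroup G) v y * conj (lift (R : Subgroup G) w y) :=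
    fun g x => by
      have h : IsConj g (x * g * x⁻¹) := isConj_iff.2 ⟨x, rfl⟩
      simp only [← lift_conj hv h, ← lift_conj hw h]
  have h := sum_pow R hR hcard hk0 hk1 hφ
  rw [classInner]
  simp only [sect]
  rw [h, ← mul_assoc, inv_mul_cancel₀ (Nat.cast_ne_zero.2 Nat.card_pos.ne'), one_mul]
  refine Finset.sum_congr rfl fun r _ => ?_
  rw [lift_of_conj hv (IsConj.refl _), lift_of_conj hw (IsConj.refl _)]

theorem sect_const [Fact (Nat.Prime 3)] (R : Sylow 3 G) (hcard : Nat.card G = 9 * M)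
    (hk0 : M ∣ k) (c : ℂ) : sect (R : Subgroup G) k (fun _ => c) = fun _ => c := by
  funext g
  obtain ⟨r, hr⟩ := exists_conj_of_pow_nine R (pow_exponent_nine hcard hk0 g)
  exact lift_of_conj (fun _ _ _ => rfl) hr

theorem sect_isClassFunction {S : Subgroup G} {v : S → ℂ} (hv : Stable v) :
    IsClassFunction G (sect S k v) := fun g x =>
  lift_conj hv (isConj_iff.2 ⟨x⁻¹, by rw [conj_pow]; group⟩)

theorem sect_isGeneralizedCharacter [Fact (Nat.Prime 3)] (R : Sylow 3 G)
    (hcard : Nat.card G = 9 * M) (hM : ¬ 3 ∣ M) (hk0 : M ∣ k) (hk1 : k ≡ 1 [MOD 9])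
    {v : ↥(R : Subgroup G) → ℂ} (hv : Stable v)
    (hgen : IsGeneralizedCharacter (R : Subgroup G) v) :
    IsGeneralizedCharacter G (sect (R : Subgroup G) k v) := by
  classical
  refine Char.brauer_characterization (sect_isClassFunction hv) fun E q hq hE => ?_
  have := Char.isNilpotent_of_isElementary hq hE
  set A := 3 ^ (Nat.card E).factorization 3
  set B := Nat.card E / A
  have hAB : A * B = Nat.card E := Nat.ordProj_mul_ordCompl_eq_self _ _
  have hcop : A.Coprime B :=
    (Nat.coprime_ordCompl Nat.prime_three Nat.card_pos.ne').pow_left _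
  obtain ⟨m, f, hf, hm1, hBm⟩ := Char.exists_powHom hcop hAB.symm
  have hdvd : Nat.card E ∣ 3 ^ 2 * M := hcard ▸ E.card_subgroup_dvd_card
  have hB : B ∣ M := Nat.Coprime.dvd_of_dvd_mul_left (((Nat.prime_three.coprime_iff_not_dvd.2
    (Nat.not_dvd_ordCompl Nat.prime_three Nat.card_pos.ne')).pow_left 2).symm)
    ((Dvd.intro_left A hAB).trans hdvd)
  have hA : A ∣ 9 := by
    refine Nat.Coprime.dvd_of_dvd_mul_right (Nat.Coprime.pow_left _ ?_)
      ((Dvd.intro B hAB).trans hdvd)
    exact Nat.prime_three.coprime_iff_not_dvd.2 hM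
  have hfk : ∀ e : E, (f e : G) = (e : G) ^ k := fun e => by
    rw [hf, Subgroup.coe_pow]
    refine pow_eq_pow_iff_modEq.2 (Nat.ModEq.of_dvd
      (show orderOf (e : G) ∣ A * B from hAB ▸ (Subgroup.orderOf_coe e ▸ orderOf_dvd_natCard e))
      ((Nat.modEq_and_modEq_iff_modEq_mul hcop).1 ⟨hm1.trans (hk1.of_dvd hA).symm, ?_⟩))
    exact (Nat.modEq_zero_iff_dvd.2 hBm).trans (Nat.modEq_zero_iff_dvd.2 (hB.trans hk0)).symm
  have hP : IsPGroup 3 (f.range.map E.subtype) := by
    intro x
    refine ⟨2, Subtype.ext ?_⟩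
    obtain ⟨_, ⟨e, rfl⟩, hx⟩ := x.2
    rw [Subgroup.coe_pow, ← hx]
    show (f e : G) ^ 3 ^ 2 = 1
    rw [hfk]
    exact pow_exponent_nine hcard hk0 _
  obtain ⟨Q, hQ⟩ := hP.exists_le_sylow
  obtain ⟨c, hc⟩ := MulAction.exists_smul_eq G Q R
  have hmem : ∀ e : E, c * (f e : G) * c⁻¹ ∈ (R : Subgroup G) := fun e => by
    rw [← hc]
    exact ⟨f e, hQ ⟨f e, ⟨e, rfl⟩, rfl⟩, rfl⟩
  let h : E →* (R : Subgroup G) :=
    { toFun := fun e => ⟨c * (f e : G) * c⁻¹, hmem e⟩
      map_one' := Subtype.ext (by simp)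
      map_mul' := fun a b => Subtype.ext (by simp [mul_assoc]) }
  have e : (fun e : E => sect (R : Subgroup G) k v e) = fun e => v (h e) := funext fun e => by
    rw [sect, ← hfk]
    exact lift_of_conj hv (isConj_iff.2 ⟨c, rfl⟩)
  rw [e]
  exact Char.IsGeneralizedCharacter.comp_hom hgen h

theorem sect_pow {S : Subgroup G} {v : S → ℂ} (hv : Stable v) {j : ℕ}
    (hj : ∀ r : S, v (r ^ j) = v r) {g : G} (hg : ∃ r : S, IsConj (g ^ k) (r : G)) :
    sect S k v (g ^ j) = sect S k v g := by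
  obtain ⟨r, hr⟩ := hg
  have hr' : IsConj ((g ^ j) ^ k) ((r ^ j : S) : G) := by
    obtain ⟨c, hc⟩ := isConj_iff.1 hr
    refine isConj_iff.2 ⟨c, ?_⟩
    rw [← pow_mul, mul_comm, pow_mul, Subgroup.coe_pow, ← hc, conj_pow]
  rw [sect, sect, lift_of_conj hv hr', lift_of_conj hv hr, hj]

end nine

end Cfsg.Agent.SmallOrders.NineTwoPrimes
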