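-- The local computations at a Sylow 3-subgroup `R` of order 9.
--
-- * `exists_normalizer_conj`: fusion in `R` is controlled by its normaliser
-- * `nine_mul_reg`: the `3`-regular elements of a centraliser with a normal 3-complement
-- * `omega_of_inverted`, `omega_of_klein`: the weights in the two cases
import Cfsg.Agent.Lib.SmallOrders.NineTwoPrimes.Sections
import Mathlib.GroupTheory.PGroup

set_option autoImplicit false
set_option linter.unusedSectionVars false

namespace Cfsg.Agent.SmallOrders.NineTwoPrimes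

open Cfsg Subgroup

variable {G : Type*} [Group G] [Finite G] [Fact (Nat.Prime 3)]

theorem fin_neg_ne : ∀ i : Fin 3, i ≠ 0 → i ≠ -i := by decide

theorem fin_sq_mod : ∀ i : Fin 3, i ≠ 0 → (i : ℕ) * i % 3 = 1 := by decide

theorem comm_of_nine (R : Sylow 3 G) (hR : Nat.card (R : Subgroup G) = 9) :
    ∀ x ∈ (R : Subgroup G), ∀ y ∈ (R : Subgroup G), x * y = y * x := fun x hx y hy =>
  congrArg Subtype.val (@mul_comm' _ _
    (IsPGroup.isMulCommutative_of_card_eq_prime_sq (p := 3) (by rw [hR]; norm_num))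
    (⟨x, hx⟩ : (R : Subgroup G)) ⟨y, hy⟩)

theorem exists_normalizer_conj (R : Sylow 3 G) (hR : Nat.card (R : Subgroup G) = 9) {r s : G}
    (hr : r ∈ (R : Subgroup G)) (hs : s ∈ (R : Subgroup G)) (h : IsConj r s) :
    ∃ n ∈ normalizer ((R : Subgroup G) : Set G), n * r * n⁻¹ = s := by
  obtain ⟨g, hg⟩ := isConj_iff.1 h
  have : IsMulCommutative (R : Subgroup G) :=
    IsPGroup.isMulCommutative_of_card_eq_prime_sq (p := 3) (by rw [hR]; norm_num)
  obtain ⟨n, hn, he⟩ := R.conj_eq_normalizer_conj_of_mem r g⁻¹ hr (by rwa [inv_inv, hg])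
  rw [inv_inv, hg] at he
  exact ⟨n⁻¹, inv_mem hn, by rw [inv_inv]; exact he.symm⟩

theorem centralizer_contains (R : Sylow 3 G) (hR : Nat.card (R : Subgroup G) = 9) {r : G}
    (hr : r ∈ (R : Subgroup G)) : (R : Subgroup G) ≤ centralizer ({r} : Set G) :=
  fun x hx => mem_centralizer_singleton_iff.2 (comm_of_nine R hR x hx r hr)

theorem nine_mul_reg (R : Sylow 3 G) (hR : Nat.card (R : Subgroup G) = 9) {r : G}
    (hr : r ∈ (R : Subgroup G))
    (hfix : ∀ n ∈ normalizer ((R : Subgroup G) : Set G), n * r * n⁻¹ = r →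
      ∀ x ∈ (R : Subgroup G), n * x = x * n) :
    9 * reg r = Nat.card (centralizer ({r} : Set G)) := by
  set C := centralizer ({r} : Set G)
  have hRC := centralizer_contains R hR hr
  set P : Sylow 3 C := R.subtype hRC
  have hP : (P : Subgroup C) = (R : Subgroup G).subgroupOf C := R.coe_subtype hRC
  have hle : normalizer ((P : Subgroup C) : Set C) ≤ centralizer ((P : Subgroup C) : Set C) := by
    intro n hn
    have hmem : ∀ x : G, ∀ hx : x ∈ C, (⟨x, hx⟩ : C) ∈ (P : Subgroup C) ↔ x ∈ (R : Subgroup G) :=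
      fun x hx => by rw [hP, mem_subgroupOf]
    have hnN : (n : G) ∈ normalizer ((R : Subgroup G) : Set G) := by
      refine mem_normalizer_iff.2 fun x => ⟨fun hx => ?_, fun hx => ?_⟩
      · have h := (mem_normalizer_iff.1 hn ⟨x, hRC hx⟩).1 ((hmem x (hRC hx)).2 hx)
        rw [hP, mem_subgroupOf] at h
        simpa using h
      · have h := (mem_normalizer_iff.1 (inv_mem hn) ⟨_, hRC hx⟩).1 ((hmem _ (hRC hx)).2 hx)
        rw [hP, mem_subgroupOf] at h
        simpa [mul_assoc] using h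
    refine mem_centralizer_iff.2 fun x hx => Subtype.ext ?_
    rw [hP] at hx
    have hc := mem_centralizer_singleton_iff.1 n.2
    exact (hfix n hnN (by rw [hc, mul_inv_cancel_right]) x (mem_subgroupOf.1 hx)).symm
  have : FiniteIndex (P : Subgroup C) := ⟨index_ne_zero_of_finite⟩
  have hK := MonoidHom.ker_transferSylow_isComplement' P hle
  set K := (MonoidHom.transferSylow P hle).ker
  have hKn : K.Normal := MonoidHom.normal_ker _
  have hcP : Nat.card (P : Subgroup C) = 9 := by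
    rw [hP, Nat.card_congr (subgroupOfEquivOfLe hRC).toEquiv, hR]
  have hcard : Nat.card K * 9 = Nat.card C := hcP ▸ hK.card_mul
  have hidx : K.index = 9 := by
    have h := K.card_mul_index
    rw [← hcard] at h
    exact Nat.eq_of_mul_eq_mul_left Nat.card_pos h
  have hK3 : ¬ 3 ∣ Nat.card K := fun h => by
    have h1 := P.not_dvd_index'
    have h2 : (P : Subgroup C).index = Nat.card K := by
      have h := (P : Subgroup C).card_mul_index
      rw [← hcard, hcP, mul_comm] at h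
      exact Nat.eq_of_mul_eq_mul_right (by norm_num) h
    exact h1 (index_ne_zero_of_finite) (h2 ▸ h)
  have heq : Nat.card K = reg r := by
    refine Nat.card_congr
      { toFun := fun z => ⟨((z : C) : G), ?_, ?_⟩
        invFun := fun z => ⟨⟨z, ?_⟩, ?_⟩
        left_inv := fun z => rfl
        right_inv := fun z => rfl }
    · exact (mem_centralizer_singleton_iff.1 (z : C).2).symm
    · rw [Subgroup.orderOf_coe, Subgroup.orderOf_coe]
      exact fun h => hK3 (h.trans (orderOf_dvd_natCard z))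
    · exact mem_centralizer_singleton_iff.2 z.2.1.eq.symm
    · set w : C := ⟨z, _⟩
      have h9 : (QuotientGroup.mk' K w) ^ 9 = 1 := by rw [← hidx]; exact pow_card_eq_one'
      have hreg : ¬ 3 ∣ orderOf w := by rw [← Subgroup.orderOf_coe]; exact z.2.2
      rw [← QuotientGroup.ker_mk' K, MonoidHom.mem_ker, ← orderOf_eq_one_iff]
      have h1 : orderOf (QuotientGroup.mk' K w) ∣ 3 ^ 2 := orderOf_dvd_of_pow_eq_one h9
      have h2 : orderOf (QuotientGroup.mk' K w) ∣ orderOf w := orderOf_map_dvd _ _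
      exact Nat.eq_one_of_dvd_coprimes
        ((Nat.prime_three.coprime_iff_not_dvd.2 hreg).pow_left 2) h1 h2
  rw [← heq, mul_comm, hcard]

theorem inv_ne_self (R : Sylow 3 G) (hR : Nat.card (R : Subgroup G) = 9) {r : G}
    (hr : r ∈ (R : Subgroup G)) (h1 : r ≠ 1) : r⁻¹ ≠ r := fun h => by
  have h2 : r ^ 2 = 1 := by rw [pow_two]; nth_rewrite 1 [← h]; rw [inv_mul_cancel]
  have := Nat.dvd_gcd (orderOf_dvd_of_pow_eq_one h2)
    (orderOf_dvd_of_pow_eq_one (pow_nine_of_mem hR hr))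
  rw [show Nat.gcd 2 9 = 1 from rfl, Nat.dvd_one, orderOf_eq_one_iff] at this
  exact h1 this

/-- every element of `N(R)` inverts `R` or centralises it, and one inverts -/
structure Inverted (R : Sylow 3 G) : Prop where
  sign : ∀ n ∈ normalizer ((R : Subgroup G) : Set G),
    (∀ x ∈ (R : Subgroup G), n * x * n⁻¹ = x) ∨ (∀ x ∈ (R : Subgroup G), n * x * n⁻¹ = x⁻¹)
  flip : ∃ n ∈ normalizer ((R : Subgroup G) : Set G), ∀ x ∈ (R : Subgroup G), n * x * n⁻¹ = x⁻¹

theorem Inverted.conj_cases {R : Sylow 3 G} (hI : Inverted R) (hR : Nat.card (R : Subgroup G) = 9)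
    {r s : G} (hr : r ∈ (R : Subgroup G)) (hs : s ∈ (R : Subgroup G)) (h : IsConj r s) :
    s = r ∨ s = r⁻¹ := by
  obtain ⟨n, hn, he⟩ := exists_normalizer_conj R hR hr hs h
  rcases hI.sign n hn with hc | hc
  · exact Or.inl (by rw [← he, hc r hr])
  · exact Or.inr (by rw [← he, hc r hr])

theorem Inverted.conj_inv {R : Sylow 3 G} (hI : Inverted R) {r : G}
    (hr : r ∈ (R : Subgroup G)) : IsConj r r⁻¹ := by
  obtain ⟨n, -, hn⟩ := hI.flip
  exact isConj_iff.2 ⟨n, hn r hr⟩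

theorem omega_of_inverted (R : Sylow 3 G) (hR : Nat.card (R : Subgroup G) = 9) (hI : Inverted R)
    {r : G} (hr : r ∈ (R : Subgroup G)) (h1 : r ≠ 1) : omega (R : Subgroup G) r = 1 / 18 := by
  classical
  have := Fintype.ofFinite (R : Subgroup G)
  have hreg := nine_mul_reg R hR hr fun n hn hfix x hx => by
    rcases hI.sign n hn with h | h
    · exact mul_inv_eq_iff_eq_mul.1 (h x hx)
    · exact absurd ((h r hr).symm.trans hfix) (inv_ne_self R hR hr h1)
  have hcls : cls (R : Subgroup G) r = 2 := by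
    rw [cls, Nat.card_eq_fintype_card, Fintype.card_subtype, Finset.card_eq_two]
    refine ⟨⟨r, hr⟩, ⟨r⁻¹, inv_mem hr⟩, fun e => inv_ne_self R hR hr h1 (congrArg Subtype.val e).symm,
      Finset.ext fun s => ?_⟩
    simp only [Finset.mem_filter, Finset.mem_univ, true_and, Finset.mem_insert, Finset.mem_singleton,
      Subtype.ext_iff]
    constructor
    · exact fun h => hI.conj_cases hR hr s.2 h.symm
    · rintro (e | e) <;> rw [e]
      exact (hI.conj_inv hr).symm
  rw [omega, hcls, ← hreg]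
  have : (reg r : ℂ) ≠ 0 := by
    refine Nat.cast_ne_zero.2 fun e => ?_
    rw [e, mul_zero] at hreg
    exact Nat.card_pos.ne hreg
  push_cast
  field_simp
  norm_num

/-- `R = ⟨a⟩ × ⟨b⟩` with all four sign combinations in `N(R)` -/
structure Klein (R : Sylow 3 G) (a b : G) : Prop where
  mem_a : a ∈ (R : Subgroup G)
  mem_b : b ∈ (R : Subgroup G)
  cube_a : a ^ 3 = 1
  cube_b : b ^ 3 = 1
  coord : Function.Bijective fun p : Fin 3 × Fin 3 =>
    (⟨a ^ (p.1 : ℕ) * b ^ (p.2 : ℕ), mul_mem (pow_mem mem_a _) (pow_mem mem_b _)⟩ :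
      (R : Subgroup G))
  sign : ∀ n ∈ normalizer ((R : Subgroup G) : Set G),
    (n * a * n⁻¹ = a ∨ n * a * n⁻¹ = a⁻¹) ∧ (n * b * n⁻¹ = b ∨ n * b * n⁻¹ = b⁻¹)
  flipA : ∃ n ∈ normalizer ((R : Subgroup G) : Set G), n * a * n⁻¹ = a⁻¹ ∧ n * b * n⁻¹ = b
  flipB : ∃ n ∈ normalizer ((R : Subgroup G) : Set G), n * a * n⁻¹ = a ∧ n * b * n⁻¹ = b⁻¹

namespace Klein

variable {R : Sylow 3 G} {a b : G}

theorem swap (K : Klein R a b) (hR : Nat.card (R : Subgroup G) = 9) : Klein R b a where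
  mem_a := K.mem_b
  mem_b := K.mem_a
  cube_a := K.cube_b
  cube_b := K.cube_a
  coord := by
    have e := K.coord.comp (Equiv.prodComm (Fin 3) (Fin 3)).bijective
    refine Eq.subst (motive := Function.Bijective) (funext fun p => Subtype.ext ?_) e
    exact comm_of_nine R hR _ (pow_mem K.mem_a _) _ (pow_mem K.mem_b _)
  sign n hn := (K.sign n hn).symm
  flipA := let ⟨n, hn, h1, h2⟩ := K.flipB; ⟨n, hn, h2, h1⟩
  flipB := let ⟨n, hn, h1, h2⟩ := K.flipA; ⟨n, hn, h2, h1⟩

variable (K : Klein R a b)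
include K

theorem eq_iff {i j i' j' : Fin 3}
    (h : a ^ (i : ℕ) * b ^ (j : ℕ) = a ^ (i' : ℕ) * b ^ (j' : ℕ)) : i = i' ∧ j = j' :=
  Prod.ext_iff.1 (K.coord.1 (a₁ := (i, j)) (a₂ := (i', j')) (Subtype.ext h))

theorem exists_eq {x : G} (hx : x ∈ (R : Subgroup G)) :
    ∃ i j : Fin 3, x = a ^ (i : ℕ) * b ^ (j : ℕ) := by
  obtain ⟨p, hp⟩ := K.coord.2 ⟨x, hx⟩
  exact ⟨p.1, p.2, (congrArg Subtype.val hp).symm⟩

theorem inv_pow_a (i : Fin 3) : (a ^ (i : ℕ))⁻¹ = a ^ ((-i : Fin 3) : ℕ) := by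
  refine inv_eq_of_mul_eq_one_right ?_
  rw [← pow_add]
  obtain ⟨c, hc⟩ : 3 ∣ (i : ℕ) + ((-i : Fin 3) : ℕ) := by revert i; decide
  rw [hc, pow_mul, K.cube_a, one_pow]

theorem inv_pow_b (i : Fin 3) : (b ^ (i : ℕ))⁻¹ = b ^ ((-i : Fin 3) : ℕ) := by
  refine inv_eq_of_mul_eq_one_right ?_
  rw [← pow_add]
  obtain ⟨c, hc⟩ : 3 ∣ (i : ℕ) + ((-i : Fin 3) : ℕ) := by revert i; decide
  rw [hc, pow_mul, K.cube_b, one_pow]

theorem conj_eq {n : G} (hn : n ∈ normalizer ((R : Subgroup G) : Set G)) (i j : Fin 3) :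
    ∃ u v : Fin 3, n * (a ^ (i : ℕ) * b ^ (j : ℕ)) * n⁻¹ = a ^ (u : ℕ) * b ^ (v : ℕ) ∧
      ((n * a * n⁻¹ = a ∧ u = i) ∨ (n * a * n⁻¹ = a⁻¹ ∧ u = -i)) ∧
      ((n * b * n⁻¹ = b ∧ v = j) ∨ (n * b * n⁻¹ = b⁻¹ ∧ v = -j)) := by
  have e : n * (a ^ (i : ℕ) * b ^ (j : ℕ)) * n⁻¹ =
      (n * a * n⁻¹) ^ (i : ℕ) * (n * b * n⁻¹) ^ (j : ℕ) := by
    rw [conj_pow, conj_pow]; group
  rcases (K.sign n hn).1 with ha | ha <;> rcases (K.sign n hn).2 with hb | hb <;> rw [e, ha, hb]
  · exact ⟨i, j, rfl, Or.inl ⟨rfl, rfl⟩, Or.inl ⟨rfl, rfl⟩⟩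
  · exact ⟨i, -j, by rw [inv_pow, K.inv_pow_b], Or.inl ⟨rfl, rfl⟩, Or.inr ⟨rfl, rfl⟩⟩
  · exact ⟨-i, j, by rw [inv_pow, K.inv_pow_a], Or.inr ⟨rfl, rfl⟩, Or.inl ⟨rfl, rfl⟩⟩
  · exact ⟨-i, -j, by rw [inv_pow, inv_pow, K.inv_pow_a, K.inv_pow_b], Or.inr ⟨rfl, rfl⟩,
      Or.inr ⟨rfl, rfl⟩⟩

theorem conj_cases (hR : Nat.card (R : Subgroup G) = 9) {i j i' j' : Fin 3}
    (h : IsConj (a ^ (i : ℕ) * b ^ (j : ℕ)) (a ^ (i' : ℕ) * b ^ (j' : ℕ))) :
    (i' = i ∨ i' = -i) ∧ (j' = j ∨ j' = -j) := by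
  obtain ⟨n, hn, he⟩ := exists_normalizer_conj R hR
    (mul_mem (pow_mem K.mem_a _) (pow_mem K.mem_b _))
    (mul_mem (pow_mem K.mem_a _) (pow_mem K.mem_b _)) h
  obtain ⟨u, v, huv, hu, hv⟩ := K.conj_eq hn i j
  obtain ⟨rfl, rfl⟩ := K.eq_iff (he.symm.trans huv)
  exact ⟨hu.imp And.right And.right, hv.imp And.right And.right⟩

theorem isConj_neg (hR : Nat.card (R : Subgroup G) = 9) (i j : Fin 3) :
    IsConj (a ^ (i : ℕ) * b ^ (j : ℕ)) (a ^ ((-i : Fin 3) : ℕ) * b ^ (j : ℕ)) ∧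
      IsConj (a ^ (i : ℕ) * b ^ (j : ℕ)) (a ^ (i : ℕ) * b ^ ((-j : Fin 3) : ℕ)) := by
  constructor
  · obtain ⟨n, -, ha, hb⟩ := K.flipA
    refine isConj_iff.2 ⟨n, ?_⟩
    rw [show n * (a ^ (i : ℕ) * b ^ (j : ℕ)) * n⁻¹ =
      (n * a * n⁻¹) ^ (i : ℕ) * (n * b * n⁻¹) ^ (j : ℕ) by rw [conj_pow, conj_pow]; group,
      ha, hb, inv_pow, K.inv_pow_a]
  · obtain ⟨n, -, ha, hb⟩ := K.flipB
    refine isConj_iff.2 ⟨n, ?_⟩
    rw [show n * (a ^ (i : ℕ) * b ^ (j : ℕ)) * n⁻¹ =
      (n * a * n⁻¹) ^ (i : ℕ) * (n * b * n⁻¹) ^ (j : ℕ) by rw [conj_pow, conj_pow]; group,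
      ha, hb, inv_pow, K.inv_pow_b]

/-- the number of conjugates inside `R` -/
theorem cls_eq (hR : Nat.card (R : Subgroup G) = 9) (i j : Fin 3) :
    cls (R : Subgroup G) (a ^ (i : ℕ) * b ^ (j : ℕ)) =
      (if i = 0 then 1 else 2) * (if j = 0 then 1 else 2) := by
  classical
  have e : Nat.card {p : Fin 3 × Fin 3 // (p.1 = i ∨ p.1 = -i) ∧ (p.2 = j ∨ p.2 = -j)} =
      (if i = 0 then 1 else 2) * (if j = 0 then 1 else 2) := by
    rw [Nat.card_eq_fintype_card]; revert i j; decide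
  rw [← e, cls]
  refine Nat.card_congr (Equiv.subtypeEquiv (Equiv.ofBijective _ K.coord).symm fun s => ?_)
  obtain ⟨p, rfl⟩ := K.coord.2 s
  rw [Equiv.ofBijective_symm_apply_apply _ K.coord p]
  obtain ⟨u, v⟩ := p
  refine ⟨fun h => K.conj_cases hR h.symm, fun ⟨hu, hv⟩ => ?_⟩
  have h1 : IsConj (a ^ (u : ℕ) * b ^ (v : ℕ)) (a ^ (i : ℕ) * b ^ (v : ℕ)) := by
    rcases hu with rfl | rfl
    · exact IsConj.refl _
    · exact (K.isConj_neg hR i v).1.symm
  refine h1.trans ?_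
  rcases hv with rfl | rfl
  · exact IsConj.refl _
  · exact (K.isConj_neg hR i j).2.symm

theorem nine_mul_reg_mixed (hR : Nat.card (R : Subgroup G) = 9) {i j : Fin 3} (hi : i ≠ 0)
    (hj : j ≠ 0) : 9 * reg (a ^ (i : ℕ) * b ^ (j : ℕ)) =
      Nat.card (centralizer ({a ^ (i : ℕ) * b ^ (j : ℕ)} : Set G)) := by
  refine nine_mul_reg R hR (mul_mem (pow_mem K.mem_a _) (pow_mem K.mem_b _)) fun n hn hfix x hx => ?_
  obtain ⟨u, v, huv, hu, hv⟩ := K.conj_eq hn i j
  obtain ⟨rfl, rfl⟩ := K.eq_iff (hfix.symm.trans huv)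
  have ha : n * a * n⁻¹ = a := by
    rcases hu with h | h
    · exact h.1
    · exact absurd h.2 (fin_neg_ne i hi)
  have hb : n * b * n⁻¹ = b := by
    rcases hv with h | h
    · exact h.1
    · exact absurd h.2 (fin_neg_ne j hj)
  obtain ⟨k, l, rfl⟩ := K.exists_eq hx
  refine mul_inv_eq_iff_eq_mul.1 ?_
  rw [show n * (a ^ (k : ℕ) * b ^ (l : ℕ)) * n⁻¹ =
    (n * a * n⁻¹) ^ (k : ℕ) * (n * b * n⁻¹) ^ (l : ℕ) by rw [conj_pow, conj_pow]; group, ha, hb]

/-- inside `C(a)` the regular elements make up `2/9` -/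
theorem reg_a (hR : Nat.card (R : Subgroup G) = 9) :
    9 * reg a = 2 * Nat.card (centralizer ({a} : Set G)) := by
  classical
  set C := centralizer ({a} : Set G)
  have hRC := centralizer_contains R hR K.mem_a
  set P : Sylow 3 C := R.subtype hRC
  have hP : (P : Subgroup C) = (R : Subgroup G).subgroupOf C := R.coe_subtype hRC
  have hmemP : ∀ x : C, x ∈ (P : Subgroup C) ↔ (x : G) ∈ (R : Subgroup G) := fun x => by
    rw [hP, mem_subgroupOf]
  have hcP : Nat.card (P : Subgroup C) = 9 := by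
    rw [hP, Nat.card_congr (subgroupOfEquivOfLe hRC).toEquiv, hR]
  set M' := (P : Subgroup C).index
  have hcardC : Nat.card C = 9 * M' := by rw [← hcP]; exact ((P : Subgroup C).card_mul_index).symm
  have hM' : ¬ 3 ∣ M' := P.not_dvd_index' index_ne_zero_of_finite
  obtain ⟨k, hk1, hk0⟩ := exists_exponent hM'
  have := Fintype.ofFinite C
  have := Fintype.ofFinite (P : Subgroup C)
  have h := sum_pow P hcP hcardC hk0 hk1 (φ := fun _ : C => (1 : ℂ)) (fun _ _ => rfl)
  simp only [Finset.sum_const, Finset.card_univ, nsmul_eq_mul, mul_one, one_mul,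
    ← Nat.card_eq_fintype_card] at h
  have hC0 : (Nat.card C : ℂ) ≠ 0 := Nat.cast_ne_zero.2 Nat.card_pos.ne'
  have hone : ∑ r : (P : Subgroup C), omega (P : Subgroup C) (r : C) = 1 :=
    mul_left_cancel₀ hC0 (h.symm.trans (mul_one _).symm)
  let a' : C := ⟨a, mem_centralizer_singleton_iff.2 rfl⟩
  let b' : C := ⟨b, hRC K.mem_b⟩
  obtain ⟨t, htN, hta, htb⟩ := K.flipB
  let t' : C := ⟨t, mem_centralizer_singleton_iff.2 (mul_inv_eq_iff_eq_mul.1 hta)⟩
  let φ : Fin 3 × Fin 3 → (P : Subgroup C) := fun p =>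
    ⟨a' ^ (p.1 : ℕ) * b' ^ (p.2 : ℕ),
      (hmemP _).2 (mul_mem (pow_mem K.mem_a _) (pow_mem K.mem_b _))⟩
  have hφ : Function.Bijective φ := by
    refine ⟨fun p q e => K.coord.1 (Subtype.ext ?_), fun y => ?_⟩
    · have := congrArg (fun z : (P : Subgroup C) => ((z : C) : G)) e
      simpa [φ, a', b'] using this
    · obtain ⟨i, j, hij⟩ := K.exists_eq ((hmemP _).1 y.2)
      exact ⟨(i, j), Subtype.ext (Subtype.ext (by simpa [φ, a', b'] using hij.symm))⟩
  rw [← hφ.sum_comp (fun r => omega (P : Subgroup C) (r : C))] at hone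
  have hconjG : ∀ {x y : C}, IsConj x y → IsConj (x : G) y :=
    fun {x y} h => C.subtype.map_isConj h
  have hcen : ∀ i : Fin 3, omega (P : Subgroup C) (φ (i, 0) : C) = (reg a : ℂ) / Nat.card C := by
    intro i
    have hval : ((φ (i, 0) : C) : G) = a ^ (i : ℕ) := by simp [φ, a']
    have hcomm : ∀ z : C, z * (φ (i, 0) : C) = (φ (i, 0) : C) * z := fun z => Subtype.ext (by
      show (z : G) * _ = _ * (z : G)
      rw [hval]
      exact ((show Commute (z : G) a from mem_centralizer_singleton_iff.1 z.2).pow_right _).eq)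
    have e1 : cls (P : Subgroup C) (φ (i, 0) : C) = 1 := by
      rw [cls]
      haveI : Unique {r : (P : Subgroup C) // IsConj (r : C) (φ (i, 0) : C)} := by
        refine ⟨⟨⟨φ (i, 0), IsConj.refl _⟩⟩, fun r => Subtype.ext (Subtype.ext ?_)⟩
        obtain ⟨c, hc⟩ := isConj_iff.1 r.2.symm
        rw [← hc, hcomm c, mul_inv_cancel_right]
        rfl
      exact Nat.card_unique
    have e2 : centralizer ({(φ (i, 0) : C)} : Set C) = ⊤ :=
      eq_top_iff.2 fun z _ => mem_centralizer_singleton_iff.2 (hcomm z)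
    have e3 : reg (φ (i, 0) : C) = reg a := by
      refine Nat.card_congr
        { toFun := fun z => ⟨((z : C) : G), ?_, ?_⟩
          invFun := fun z => ⟨⟨z, ?_⟩, ?_, ?_⟩
          left_inv := fun z => rfl
          right_inv := fun z => rfl }
      · exact (mem_centralizer_singleton_iff.1 (z : C).2).symm
      · rw [Subgroup.orderOf_coe]; exact z.2.2
      · exact mem_centralizer_singleton_iff.2 z.2.1.eq.symm
      · exact (hcomm _).symm
      · rw [← Subgroup.orderOf_coe]; exact z.2.2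
    rw [omega, e1, e2, e3, Subgroup.card_top, Nat.cast_one, one_mul]
  have hmov : ∀ i j : Fin 3, j ≠ 0 → omega (P : Subgroup C) (φ (i, j) : C) = 1 / 18 := by
    intro i j hj
    have hval : ∀ i j : Fin 3, ((φ (i, j) : C) : G) = a ^ (i : ℕ) * b ^ (j : ℕ) := fun i j => by
      simp [φ, a', b']
    have hfix : ∀ n ∈ normalizer ((P : Subgroup C) : Set C),
        (n : G) ∈ normalizer ((R : Subgroup G) : Set G) := by
      intro n hn
      refine mem_normalizer_iff.2 fun x => ⟨fun hx => ?_, fun hx => ?_⟩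
      · simpa using (hmemP _).1 ((mem_normalizer_iff.1 hn ⟨x, hRC hx⟩).1 ((hmemP ⟨x, hRC hx⟩).2 hx))
      · simpa [mul_assoc] using (hmemP _).1
          ((mem_normalizer_iff.1 (inv_mem hn) ⟨_, hRC hx⟩).1 ((hmemP ⟨_, hRC hx⟩).2 hx))
    have e1 : cls (P : Subgroup C) (φ (i, j) : C) = 2 := by
      rw [cls, Nat.card_eq_fintype_card, Fintype.card_subtype, Finset.card_eq_two]
      refine ⟨φ (i, j), φ (i, -j), fun e => ?_, Finset.ext fun s => ?_⟩
      · exact fin_neg_ne j hj (Prod.ext_iff.1 (hφ.1 e)).2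
      obtain ⟨⟨u, v⟩, rfl⟩ := hφ.2 s
      simp only [Finset.mem_filter, Finset.mem_univ, true_and, Finset.mem_insert,
        Finset.mem_singleton]
      constructor
      · intro h
        obtain ⟨n, hn, he⟩ := exists_normalizer_conj P hcP (φ (i, j)).2 (φ (u, v)).2 h.symm
        obtain ⟨u', v', huv, hu, hv⟩ := K.conj_eq (hfix n hn) i j
        have he' := congrArg (fun z : C => (z : G)) he
        simp only [Subgroup.coe_mul, Subgroup.coe_inv, hval] at he'
        obtain ⟨rfl, rfl⟩ := K.eq_iff (he'.symm.trans huv)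
        have hna : (n : G) * a * (n : G)⁻¹ = a :=
          mul_inv_eq_iff_eq_mul.2 (mem_centralizer_singleton_iff.1 n.2)
        have hu' : u = i := by
          rcases hu with h' | h'
          · exact h'.2
          · exact absurd (h'.1.symm.trans hna) (inv_ne_self R hR K.mem_a fun e => by
              have := (K.eq_iff (i := 1) (j := 0) (i' := 0) (j' := 0) (by simp [e])).1
              exact absurd this (by decide))
        subst hu'
        rcases hv with h' | h'
        · exact Or.inl (by rw [h'.2])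
        · exact Or.inr (by rw [h'.2])
      · rintro (e | e) <;> rw [e]
        refine (isConj_iff.2 ⟨t', Subtype.ext ?_⟩ : IsConj (φ (i, j) : C) (φ (i, -j) : C)).symm
        simp only [Subgroup.coe_mul, Subgroup.coe_inv, hval]
        rw [show t * (a ^ (i : ℕ) * b ^ (j : ℕ)) * t⁻¹ =
          (t * a * t⁻¹) ^ (i : ℕ) * (t * b * t⁻¹) ^ (j : ℕ) by rw [conj_pow, conj_pow]; group,
          hta, htb, inv_pow, K.inv_pow_b]
    have e2 := nine_mul_reg P hcP (φ (i, j)).2 fun n hn hf x hx => by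
      obtain ⟨u, v, huv, hu, hv⟩ := K.conj_eq (hfix n hn) i j
      have he' := congrArg (fun z : C => (z : G)) hf
      simp only [Subgroup.coe_mul, Subgroup.coe_inv, hval] at he'
      obtain ⟨rfl, rfl⟩ := K.eq_iff (he'.symm.trans huv)
      have hna : (n : G) * a * (n : G)⁻¹ = a :=
        mul_inv_eq_iff_eq_mul.2 (mem_centralizer_singleton_iff.1 n.2)
      have hnb : (n : G) * b * (n : G)⁻¹ = b := by
        rcases hv with h' | h'
        · exact h'.1
        · exact absurd h'.2 (fin_neg_ne j hj)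
      obtain ⟨k, l, hkl⟩ := K.exists_eq ((hmemP _).1 hx)
      refine Subtype.ext ?_
      show (n : G) * (x : G) = x * n
      refine mul_inv_eq_iff_eq_mul.1 ?_
      rw [hkl, show (n : G) * (a ^ (k : ℕ) * b ^ (l : ℕ)) * (n : G)⁻¹ =
        ((n : G) * a * (n : G)⁻¹) ^ (k : ℕ) * ((n : G) * b * (n : G)⁻¹) ^ (l : ℕ) by
          rw [conj_pow, conj_pow]; group, hna, hnb]
    have h0 : (reg (φ (i, j) : C) : ℂ) ≠ 0 := by
      refine Nat.cast_ne_zero.2 fun e => ?_
      rw [e, mul_zero] at e2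
      exact Nat.card_pos.ne e2
    rw [omega, e1, ← e2]
    push_cast
    field_simp
    norm_num
  simp only [Fintype.sum_prod_type, Fin.sum_univ_three] at hone
  rw [hcen 0, hcen 1, hcen 2, hmov 0 1 (by decide), hmov 0 2 (by decide), hmov 1 1 (by decide),
    hmov 1 2 (by decide), hmov 2 1 (by decide), hmov 2 2 (by decide)] at hone
  field_simp at hone
  have : ((9 * reg a : ℕ) : ℂ) = ((2 * Nat.card C : ℕ) : ℂ) := by
    push_cast
    linear_combination hone / 6
  exact_mod_cast this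

theorem omega_eq (hR : Nat.card (R : Subgroup G) = 9) (i j : Fin 3) (hij : i ≠ 0 ∨ j ≠ 0) :
    omega (R : Subgroup G) (a ^ (i : ℕ) * b ^ (j : ℕ)) =
      if i = 0 ∨ j = 0 then 1 / 9 else 1 / 36 := by
  rw [omega, K.cls_eq hR]
  have key : ∀ {a b : G}, Klein R a b → ∀ i : Fin 3, i ≠ 0 →
      9 * reg (a ^ (i : ℕ)) = 2 * Nat.card (centralizer ({a ^ (i : ℕ)} : Set G)) := by
    intro a b K i hi
    have hc : ∀ z : G, Commute a z ↔ Commute (a ^ (i : ℕ)) z := fun z => by
      refine ⟨fun h => h.pow_left _, fun h => ?_⟩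
      have h' := h.pow_left (i : ℕ)
      have e : (a ^ (i : ℕ)) ^ (i : ℕ) = a := by
        rw [← pow_mul, pow_eq_pow_mod _ K.cube_a]
        rw [fin_sq_mod i hi, pow_one]
      rwa [e] at h'
    have e1 : reg (a ^ (i : ℕ)) = reg a :=
      Nat.card_congr (Equiv.subtypeEquivRight fun z => by rw [hc z])
    have e2 : Nat.card (centralizer ({a ^ (i : ℕ)} : Set G)) =
        Nat.card (centralizer ({a} : Set G)) :=
      Nat.card_congr (Equiv.subtypeEquivRight fun z => by
        rw [mem_centralizer_singleton_iff, mem_centralizer_singleton_iff]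
        exact ⟨fun h => ((hc z).2 h.symm).eq.symm, fun h => ((hc z).1 h.symm).eq.symm⟩)
    rw [e1, e2]
    exact K.reg_a hR
  have hpos : ∀ z : G, (Nat.card (centralizer ({z} : Set G)) : ℂ) ≠ 0 :=
    fun z => Nat.cast_ne_zero.2 Nat.card_pos.ne'
  by_cases hi : i = 0
  · subst hi
    have hj : j ≠ 0 := hij.resolve_left fun h => h rfl
    rw [if_pos (Or.inl rfl), if_pos rfl, if_neg hj]
    simp only [Fin.val_zero, pow_zero, one_mul]
    have h := congrArg (fun m : ℕ => (m : ℂ)) (key (K.swap hR) j hj)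
    have := hpos (b ^ (j : ℕ))
    push_cast at h ⊢
    field_simp
    linear_combination h
  by_cases hj : j = 0
  · subst hj
    rw [if_pos (Or.inr rfl), if_neg hi, if_pos rfl]
    simp only [Fin.val_zero, pow_zero, mul_one]
    have h := congrArg (fun m : ℕ => (m : ℂ)) (key K i hi)
    have := hpos (a ^ (i : ℕ))
    push_cast at h ⊢
    field_simp
    linear_combination h
  rw [if_neg hi, if_neg hj, if_neg (not_or.2 ⟨hi, hj⟩)]
  have h := congrArg (fun m : ℕ => (m : ℂ)) (K.nine_mul_reg_mixed hR hi hj)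
  have := hpos (a ^ (i : ℕ) * b ^ (j : ℕ))
  push_cast at h ⊢
  field_simp
  linear_combination 4 * h

end Klein

end Cfsg.Agent.SmallOrders.NineTwoPrimes
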