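-- The automiser of a Sylow 3-subgroup of order 9 with at least three classes of 3-elements.
--
-- * `exists_moving`: in a simple group `N(R)` fixes no non-trivial element of `R`
-- * `automizer`: `N(R)` acts as `±1` or with all four sign patterns on a basis
import Cfsg.Agent.Lib.SmallOrders.NineTwoPrimes.Local
import Cfsg.Agent.Lib.SmallOrders.Basic

set_option autoImplicit false
set_option linter.unusedSectionVars false

namespace Cfsg.Agent.SmallOrders.NineTwoPrimes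

open Cfsg Subgroup
open scoped IsMulCommutative

variable {G : Type*} [Group G] [Finite G] [Fact (Nat.Prime 3)]

/-- a coordinate map of a linear map of `(Fin 3)²` -/
def planeMap (m : Fin 3 × Fin 3 × Fin 3 × Fin 3) (p : Fin 3 × Fin 3) : Fin 3 × Fin 3 :=
  (m.1 * p.1 + m.2.2.1 * p.2, m.2.1 * p.1 + m.2.2.2 * p.2)

/-- iterate a plane map -/
def planeIter (m : Fin 3 × Fin 3 × Fin 3 × Fin 3) : ℕ → Fin 3 × Fin 3 → Fin 3 × Fin 3
  | 0, p => p
  | n + 1, p => planeMap m (planeIter m n p)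

set_option maxRecDepth 4000 in
theorem planeIter_forty_eight : ∀ m : Fin 3 × Fin 3 × Fin 3 × Fin 3,
    (∀ p, planeMap m p = (0, 0) → p = (0, 0)) → ∀ p, planeIter m 48 p = p := by decide +kernel

set_option maxRecDepth 4000 in
theorem planeIter_cases : ∀ m : Fin 3 × Fin 3 × Fin 3 × Fin 3, (∀ p, planeIter m 16 p = p) →
    (∀ p, planeIter m 2 p = p) ∨
      ∃ p q, ∀ z, z ≠ (0, 0) → ∃ i < 8, planeIter m i p = z ∨ planeIter m i q = z := by
  decide +kernel

theorem exists_moving [IsSimpleGroup G] (hG : ¬ IsMulCommutative G) (R : Sylow 3 G)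
    (hR : Nat.card (R : Subgroup G) = 9) {x : G} (hx : x ∈ (R : Subgroup G)) (h1 : x ≠ 1) :
    ∃ n ∈ normalizer ((R : Subgroup G) : Set G), n * x * n⁻¹ ≠ x := by
  by_contra! hfix
  have hcR : IsMulCommutative (R : Subgroup G) :=
    IsPGroup.isMulCommutative_of_card_eq_prime_sq (p := 3) (by rw [hR]; norm_num)
  have : FiniteIndex (R : Subgroup G) := ⟨index_ne_zero_of_finite⟩
  have key : ∀ (k : ℕ) (g₀ : G), g₀⁻¹ * x ^ k * g₀ ∈ (R : Subgroup G) →
      g₀⁻¹ * x ^ k * g₀ = x ^ k := by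
    intro k g₀ h
    obtain ⟨n, hn, he⟩ := exists_normalizer_conj R hR (pow_mem hx k) h
      (isConj_iff.2 ⟨g₀⁻¹, by rw [inv_inv]⟩)
    rw [← he, ← conj_pow, hfix n hn]
  set V := MonoidHom.transfer (MonoidHom.id (R : Subgroup G)) with hV
  rcases (MonoidHom.normal_ker V).eq_bot_or_eq_top with hb | ht
  · refine hG ⟨⟨fun p q => (MonoidHom.ker_eq_bot_iff V).1 hb ?_⟩⟩
    rw [map_mul, map_mul, mul_comm]
  · have h2 : V x = 1 := MonoidHom.mem_ker.1 (ht ▸ mem_top x)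
    rw [hV, MonoidHom.transfer_eq_pow _ x key] at h2
    have h3 : x ^ (R : Subgroup G).index = 1 := congrArg Subtype.val h2
    have h4 := R.not_dvd_index' index_ne_zero_of_finite
    have := Nat.dvd_gcd (orderOf_dvd_of_pow_eq_one (pow_nine_of_mem hR hx))
      (orderOf_dvd_of_pow_eq_one h3)
    rw [show Nat.gcd 9 (R : Subgroup G).index = 1 from
      (Nat.Coprime.pow_left 2 (Nat.prime_three.coprime_iff_not_dvd.2 h4) : Nat.Coprime (3 ^ 2) _),
      Nat.dvd_one, orderOf_eq_one_iff] at this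
    exact h1 this

/-- `n` centralises `R` -/
def Fixes (R : Sylow 3 G) (n : G) : Prop := ∀ x ∈ (R : Subgroup G), n * x * n⁻¹ = x

theorem fixes_iff (R : Sylow 3 G) (n : G) :
    Fixes R n ↔ n ∈ centralizer ((R : Subgroup G) : Set G) := by
  rw [mem_centralizer_iff]
  exact ⟨fun h x hx => (mul_inv_eq_iff_eq_mul.1 (h x hx)).symm,
    fun h x hx => mul_inv_eq_iff_eq_mul.2 (h x hx).symm⟩

theorem fixes_pow_gcd (R : Sylow 3 G) {n : G} {a b : ℕ} (ha : Fixes R (n ^ a))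
    (hb : Fixes R (n ^ b)) : Fixes R (n ^ Nat.gcd a b) := by
  rw [fixes_iff] at ha hb ⊢
  rw [← zpow_natCast, Nat.gcd_eq_gcd_ab, zpow_add, zpow_mul, zpow_mul, zpow_natCast, zpow_natCast]
  exact mul_mem (zpow_mem ha _) (zpow_mem hb _)

theorem exists_fixes_pow (R : Sylow 3 G) (hR : Nat.card (R : Subgroup G) = 9) {n : G}
    (hn : n ∈ normalizer ((R : Subgroup G) : Set G)) : ∃ m, ¬ 3 ∣ m ∧ Fixes R (n ^ m) := by
  set m := orderOf n / 3 ^ (orderOf n).factorization 3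
  refine ⟨m, Nat.not_dvd_ordCompl Nat.prime_three (orderOf_pos n).ne', ?_⟩
  set N := normalizer ((R : Subgroup G) : Set G)
  have hp : IsPGroup 3 (zpowers (⟨n ^ m, pow_mem hn m⟩ : N)) := by
    have h : (⟨n ^ m, pow_mem hn m⟩ : N) ^ 3 ^ (orderOf n).factorization 3 = 1 := by
      refine Subtype.ext ?_
      rw [Subgroup.coe_pow, ← pow_mul, Nat.div_mul_cancel (Nat.ordProj_dvd _ _), pow_orderOf_eq_one]
      rfl
    obtain ⟨i, -, hi⟩ := (Nat.dvd_prime_pow Nat.prime_three).1 (orderOf_dvd_of_pow_eq_one h)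
    exact IsPGroup.of_card (n := i) (by rw [Nat.card_zpowers, hi])
  obtain ⟨Q, hQ⟩ := hp.exists_le_sylow
  set P : Sylow 3 N := R.subtype le_normalizer
  have hPn : (P : Subgroup N).Normal := by
    rw [show (P : Subgroup N) = (R : Subgroup G).subgroupOf N from R.coe_subtype le_normalizer]
    exact normal_in_normalizer
  have := Sylow.unique_of_normal P hPn
  have hQP : Q = P := Subsingleton.elim _ _
  have hmem : n ^ m ∈ (R : Subgroup G) := by
    have h := hQ (mem_zpowers _)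
    rw [hQP, show (P : Subgroup N) = (R : Subgroup G).subgroupOf N from R.coe_subtype le_normalizer,
      mem_subgroupOf] at h
    exact h
  exact fun x hx => mul_inv_eq_iff_eq_mul.2 (comm_of_nine R hR _ hmem x hx)

theorem conj_pow_iter (n x : G) (k : ℕ) (h : n * x * n⁻¹ = x ^ k) :
    ∀ i : ℕ, n ^ i * x * (n ^ i)⁻¹ = x ^ (k ^ i) := by
  intro i
  induction i with
  | zero => simp
  | succ i ih =>
    rw [pow_succ', show n * n ^ i * x * (n * n ^ i)⁻¹ = n * (n ^ i * x * (n ^ i)⁻¹) * n⁻¹ by group,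
      ih, ← conj_pow, h, ← pow_mul, pow_succ']

theorem inverted_of_cyclic [IsSimpleGroup G] (hG : ¬ IsMulCommutative G) (R : Sylow 3 G)
    (hR : Nat.card (R : Subgroup G) = 9) {x : G} (hx : x ∈ (R : Subgroup G))
    (hord : orderOf x = 9) : Inverted R := by
  have hgen : zpowers x = (R : Subgroup G) :=
    eq_of_le_of_card_ge (zpowers_le.2 hx) (by rw [Nat.card_zpowers, hord, hR])
  have hpows : ∀ y ∈ (R : Subgroup G), ∃ k < 9, y = x ^ k := fun y hy => by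
    classical
    rw [← hgen, mem_zpowers_iff_mem_range_orderOf, Finset.mem_image] at hy
    obtain ⟨k, hk, rfl⟩ := hy
    exact ⟨k, hord ▸ Finset.mem_range.1 hk, rfl⟩
  have hsign : ∀ n ∈ normalizer ((R : Subgroup G) : Set G),
      n * x * n⁻¹ = x ∨ n * x * n⁻¹ = x⁻¹ := by
    intro n hn
    obtain ⟨k, hk, hkx⟩ := hpows _ ((mem_normalizer_iff.1 hn x).1 hx)
    have hk3 : ¬ 3 ∣ k := fun ⟨c, hc⟩ => by
      have h : (n * x * n⁻¹) ^ 3 = 1 := by
        rw [hkx, hc, ← pow_mul, show 3 * c * 3 = orderOf x * c by rw [hord]; ring, pow_mul,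
          pow_orderOf_eq_one, one_pow]
      rw [conj_pow, conj_eq_one_iff] at h
      have := Nat.le_of_dvd (by norm_num) (orderOf_dvd_of_pow_eq_one h)
      omega
    have h6 : Fixes R (n ^ 6) := by
      intro y hy
      obtain ⟨i, -, rfl⟩ := hpows y hy
      have e6 : ∀ j : ℕ, j < 9 → ¬ 3 ∣ j → j ^ 6 % 9 = 1 := by decide
      rw [← conj_pow, conj_pow_iter n x k hkx, pow_eq_pow_mod (k ^ 6) (show x ^ 9 = 1 from
        hord ▸ pow_orderOf_eq_one x), e6 k hk hk3, pow_one]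
    obtain ⟨m, hm, hfm⟩ := exists_fixes_pow R hR hn
    have h2 : Fixes R (n ^ 2) := by
      have h := fixes_pow_gcd R h6 hfm
      have hd : Nat.gcd 6 m ∣ 2 :=
        (Nat.Coprime.coprime_dvd_left (Nat.gcd_dvd_right 6 m)
          (Nat.prime_three.coprime_iff_not_dvd.2 hm).symm).dvd_of_dvd_mul_right
          (show Nat.gcd 6 m ∣ 2 * 3 from Nat.gcd_dvd_left 6 m)
      obtain ⟨c, hc⟩ := hd
      rw [fixes_iff] at h ⊢
      rw [hc, pow_mul]
      exact pow_mem h c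
    have h' : x ^ (k ^ 2 % 9) = x ^ (1 : ℕ) := by
      rw [← pow_eq_pow_mod _ (show x ^ 9 = 1 from hord ▸ pow_orderOf_eq_one x), pow_one]
      exact conj_pow_iter n x k hkx 2 ▸ h2 x hx
    have hmod := pow_inj_mod.1 h'
    rw [hord] at hmod
    have e2 : ∀ j : ℕ, j < 9 → j ^ 2 % 9 % 9 = 1 % 9 → j = 1 ∨ j = 8 := by decide
    rcases e2 k hk hmod with rfl | rfl
    · exact Or.inl (by rw [hkx, pow_one])
    · refine Or.inr (hkx.trans (eq_inv_of_mul_eq_one_left ?_))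
      rw [← pow_succ]
      exact orderOf_dvd_iff_pow_eq_one.1 hord.dvd
  refine ⟨fun n hn => ?_, ?_⟩
  · rcases hsign n hn with h | h
    · refine Or.inl fun y hy => ?_
      obtain ⟨i, -, rfl⟩ := hpows y hy
      rw [← conj_pow, h]
    · refine Or.inr fun y hy => ?_
      obtain ⟨i, -, rfl⟩ := hpows y hy
      rw [← conj_pow, h, inv_pow]
  · obtain ⟨n, hn, hne⟩ := exists_moving hG R hR hx
      (fun e => by rw [e, orderOf_one] at hord; norm_num at hord)
    refine ⟨n, hn, fun y hy => ?_⟩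
    obtain ⟨i, -, rfl⟩ := hpows y hy
    rw [← conj_pow, (hsign n hn).resolve_left hne, inv_pow]

theorem coord_of (R : Sylow 3 G) (hR : Nat.card (R : Subgroup G) = 9) {a b : G}
    (ha : a ∈ (R : Subgroup G)) (hb : b ∈ (R : Subgroup G)) (ha3 : a ^ 3 = 1) (hb3 : b ^ 3 = 1)
    (hab : b ∉ zpowers a) (ha1 : a ≠ 1) :
    Function.Bijective fun p : Fin 3 × Fin 3 =>
      (⟨a ^ (p.1 : ℕ) * b ^ (p.2 : ℕ), mul_mem (pow_mem ha _) (pow_mem hb _)⟩ :
        (R : Subgroup G)) := by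
  refine (Nat.bijective_iff_injective_and_card _).2 ⟨fun p q e => ?_, by
    rw [hR, Nat.card_prod, Nat.card_fin]⟩
  have e' : a ^ (p.1 : ℕ) * b ^ (p.2 : ℕ) = a ^ (q.1 : ℕ) * b ^ (q.2 : ℕ) :=
    congrArg Subtype.val e
  have hj : p.2 = q.2 := by
    by_contra hne
    have hmem : b ^ ((p.2 : ℕ) : ℤ) * (b ^ ((q.2 : ℕ) : ℤ))⁻¹ ∈ zpowers a := by
      rw [zpow_natCast, zpow_natCast]
      have : b ^ (p.2 : ℕ) * (b ^ (q.2 : ℕ))⁻¹ = (a ^ (p.1 : ℕ))⁻¹ * a ^ (q.1 : ℕ) := by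
        rw [mul_inv_eq_iff_eq_mul, mul_assoc, ← e', inv_mul_cancel_left]
      rw [this]
      exact mul_mem (inv_mem (pow_mem (mem_zpowers a) _)) (pow_mem (mem_zpowers a) _)
    rw [← zpow_neg, ← zpow_add] at hmem
    refine hab ?_
    obtain ⟨u, hu⟩ : ∃ u : ℤ, (3 : ℤ) ∣ ((p.2 : ℕ) + -((q.2 : ℕ) : ℤ)) * u - 1 := by
      have hv : (p.2 : ℕ) ≠ q.2 := fun h => hne (Fin.ext h)
      have := p.2.isLt
      have := q.2.isLt
      exact ⟨(p.2 : ℕ) + -((q.2 : ℕ) : ℤ), by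
        interval_cases h : (p.2 : ℕ) <;> interval_cases h' : (q.2 : ℕ) <;> omega⟩
    obtain ⟨c, hc⟩ := hu
    have : b = (b ^ ((p.2 : ℕ) + -((q.2 : ℕ) : ℤ))) ^ u * (b ^ (3 : ℤ)) ^ (-c) := by
      rw [← zpow_mul, ← zpow_mul, ← zpow_add,
        show ((p.2 : ℕ) + -((q.2 : ℕ) : ℤ)) * u + 3 * -c = 1 by linarith, zpow_one]
    rw [zpow_ofNat, hb3, one_zpow, mul_one] at this
    rw [this]
    exact zpow_mem hmem u
  refine Prod.ext ?_ hj
  rw [hj, mul_left_inj] at e'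
  have h := pow_inj_mod.1 e'
  rw [orderOf_eq_prime ha3 ha1, Nat.mod_eq_of_lt p.1.isLt, Nat.mod_eq_of_lt q.1.isLt] at h
  exact Fin.ext h

theorem pow_fin_add {a : G} (ha : a ^ 3 = 1) (i j k l : Fin 3) :
    a ^ ((i * j + k * l : Fin 3) : ℕ) = (a ^ (i : ℕ)) ^ (j : ℕ) * (a ^ (k : ℕ)) ^ (l : ℕ) := by
  rw [← pow_mul, ← pow_mul, ← pow_add, Fin.val_add, Fin.val_mul, Fin.val_mul,
    pow_eq_pow_mod ((i : ℕ) * j + k * l) ha, Nat.add_mod ((i : ℕ) * j) (k * l)]

theorem automizer [IsSimpleGroup G] (hG : ¬ IsMulCommutative G) (R : Sylow 3 G)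
    (hR : Nat.card (R : Subgroup G) = 9)
    (h3 : ∀ p q : G, ∃ g : G, g ^ 9 = 1 ∧ g ≠ 1 ∧ ¬ IsConj g p ∧ ¬ IsConj g q) :
    Inverted R ∨ ∃ a b, Klein R a b := by
  by_cases hcyc : ∃ x ∈ (R : Subgroup G), orderOf x = 9
  · obtain ⟨x, hx, hord⟩ := hcyc
    exact Or.inl (inverted_of_cyclic hG R hR hx hord)
  push Not at hcyc
  have hexp : ∀ x ∈ (R : Subgroup G), x ^ 3 = 1 := fun x hx => by
    obtain ⟨i, hi, he⟩ := (Nat.dvd_prime_pow Nat.prime_three).1
      (orderOf_dvd_of_pow_eq_one (show x ^ 3 ^ 2 = 1 from pow_nine_of_mem hR hx))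
    have : i ≠ 2 := fun e => hcyc x hx (by rw [he, e]; norm_num)
    exact orderOf_dvd_iff_pow_eq_one.1 (by rw [he]; exact (pow_dvd_pow 3 (show i ≤ 1 by omega)).trans (by norm_num))
  have comm := comm_of_nine R hR
  -- some basis
  obtain ⟨a, ha, ha1⟩ : ∃ a ∈ (R : Subgroup G), a ≠ 1 := by
    by_contra! h
    have : (R : Subgroup G) = ⊥ := eq_bot_iff.2 fun x hx => mem_bot.2 (h x hx)
    rw [this, Subgroup.card_bot] at hR
    norm_num at hR
  obtain ⟨b, hb, hab⟩ : ∃ b ∈ (R : Subgroup G), b ∉ zpowers a := by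
    by_contra! h
    have h' := Subgroup.card_le_of_le (show (R : Subgroup G) ≤ zpowers a from h)
    rw [hR, Nat.card_zpowers, orderOf_eq_prime (hexp a ha) ha1] at h'
    norm_num at h'
  have hbij := coord_of R hR ha hb (hexp a ha) (hexp b hb) hab ha1
  set φ : Fin 3 × Fin 3 → G := fun p => a ^ (p.1 : ℕ) * b ^ (p.2 : ℕ) with hφ
  have hφsurj : ∀ y ∈ (R : Subgroup G), ∃ p, y = φ p := fun y hy => by
    obtain ⟨p, hp⟩ := hbij.2 ⟨y, hy⟩
    exact ⟨p, (congrArg Subtype.val hp).symm⟩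
  have hφinj : Function.Injective φ := fun p q e => hbij.1 (Subtype.ext e)
  -- squares of elements of the normaliser centralise
  have hsq : ∀ n ∈ normalizer ((R : Subgroup G) : Set G), Fixes R (n ^ 2) := by
    intro n hn
    obtain ⟨u, hu⟩ := hφsurj _ ((mem_normalizer_iff.1 hn a).1 ha)
    obtain ⟨v, hv⟩ := hφsurj _ ((mem_normalizer_iff.1 hn b).1 hb)
    set m : Fin 3 × Fin 3 × Fin 3 × Fin 3 := (u.1, u.2, v.1, v.2)
    have hstep : ∀ p, n * φ p * n⁻¹ = φ (planeMap m p) := by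
      intro p
      have e : n * φ p * n⁻¹ = (n * a * n⁻¹) ^ (p.1 : ℕ) * (n * b * n⁻¹) ^ (p.2 : ℕ) := by
        rw [hφ, conj_pow, conj_pow]; group
      rw [e, hu, hv]
      simp only [hφ, planeMap, m, pow_fin_add (hexp a ha), pow_fin_add (hexp b hb)]
      rw [Commute.mul_pow (comm _ (pow_mem ha _) _ (pow_mem hb _)),
        Commute.mul_pow (comm _ (pow_mem ha _) _ (pow_mem hb _))]
      simp only [mul_assoc]
      congr 1
      rw [← mul_assoc, comm _ (pow_mem (pow_mem hb _) _) _ (pow_mem (pow_mem ha _) _), mul_assoc]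
    have hiter : ∀ i p, n ^ i * φ p * (n ^ i)⁻¹ = φ (planeIter m i p) := by
      intro i
      induction i with
      | zero => intro p; simp [planeIter]
      | succ i ih =>
        intro p
        rw [pow_succ', show n * n ^ i * φ p * (n * n ^ i)⁻¹ = n * (n ^ i * φ p * (n ^ i)⁻¹) * n⁻¹ by
          group, ih, hstep]
        rfl
    have hfix : ∀ i, Fixes R (n ^ i) ↔ ∀ p, planeIter m i p = p := fun i => by
      refine ⟨fun h p => hφinj ?_, fun h y hy => ?_⟩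
      · rw [← hiter]; exact h _ (mul_mem (pow_mem ha _) (pow_mem hb _))
      · obtain ⟨p, rfl⟩ := hφsurj y hy
        rw [hiter, h]
    have hinj : ∀ p, planeMap m p = (0, 0) → p = (0, 0) := fun p hp => by
      refine hφinj ?_
      have h := hstep p
      rw [hp] at h
      simp only [hφ, Fin.val_zero, pow_zero, mul_one, conj_eq_one_iff] at h ⊢
      exact h
    have h48 := (hfix 48).2 (planeIter_forty_eight m hinj)
    obtain ⟨k, hk, hfk⟩ := exists_fixes_pow R hR hn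
    have h16 : Fixes R (n ^ 16) := by
      have h := fixes_pow_gcd R h48 hfk
      have hd : Nat.gcd 48 k ∣ 16 :=
        (Nat.Coprime.coprime_dvd_left (Nat.gcd_dvd_right 48 k)
          (Nat.prime_three.coprime_iff_not_dvd.2 hk).symm).dvd_of_dvd_mul_right
          (show Nat.gcd 48 k ∣ 16 * 3 from Nat.gcd_dvd_left 48 k)
      obtain ⟨c, hc⟩ := hd
      rw [fixes_iff] at h ⊢
      rw [hc, pow_mul]
      exact pow_mem h c
    rcases planeIter_cases m ((hfix 16).1 h16) with h | ⟨p, q, hpq⟩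
    · exact (hfix 2).2 h
    · exfalso
      obtain ⟨g, hg9, hg1, hgp, hgq⟩ := h3 (φ p) (φ q)
      obtain ⟨r, hr⟩ := exists_conj_of_pow_nine R hg9
      obtain ⟨z, hz⟩ := hφsurj _ r.2
      have hz0 : z ≠ (0, 0) := fun e => hg1 (by
        rw [hz, e] at hr
        simpa [hφ] using hr)
      obtain ⟨i, -, hi⟩ := hpq z hz0
      rw [hz] at hr
      rcases hi with hi | hi
      · exact hgp (hr.trans (isConj_iff.2 ⟨n ^ i, by rw [hiter, hi]⟩).symm)
      · exact hgq (hr.trans (isConj_iff.2 ⟨n ^ i, by rw [hiter, hi]⟩).symm)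
  by_cases hall : ∀ n ∈ normalizer ((R : Subgroup G) : Set G),
      (∀ x ∈ (R : Subgroup G), n * x * n⁻¹ = x) ∨ (∀ x ∈ (R : Subgroup G), n * x * n⁻¹ = x⁻¹)
  · refine Or.inl ⟨hall, ?_⟩
    obtain ⟨n, hn, hne⟩ := exists_moving hG R hR ha ha1
    exact ⟨n, hn, (hall n hn).resolve_left fun h => hne (h a ha)⟩
  push Not at hall
  obtain ⟨t, htN, ⟨x, hx, htx⟩, y, hy, hty⟩ := hall
  have hmem : ∀ {n z : G}, n ∈ normalizer ((R : Subgroup G) : Set G) → z ∈ (R : Subgroup G) →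
      n * z * n⁻¹ ∈ (R : Subgroup G) := fun hn hz => (mem_normalizer_iff.1 hn _).1 hz
  have htt : ∀ z ∈ (R : Subgroup G), t * (t * z * t⁻¹) * t⁻¹ = z := fun z hz => by
    rw [show t * (t * z * t⁻¹) * t⁻¹ = t ^ 2 * z * (t ^ 2)⁻¹ by rw [pow_two]; group]
    exact hsq t htN z hz
  set a' := x⁻¹ * (t * x * t⁻¹) with ha'
  set b' := y * (t * y * t⁻¹) with hb'
  have hta : t * a' * t⁻¹ = a'⁻¹ := by
    rw [ha', show t * (x⁻¹ * (t * x * t⁻¹)) * t⁻¹ = (t * x * t⁻¹)⁻¹ * (t * (t * x * t⁻¹) * t⁻¹) by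
      group, htt x hx]
    group
  have htb : t * b' * t⁻¹ = b' := by
    rw [hb', show t * (y * (t * y * t⁻¹)) * t⁻¹ = (t * y * t⁻¹) * (t * (t * y * t⁻¹) * t⁻¹) by
      group, htt y hy]
    exact comm _ (hmem htN hy) y hy
  have ha'R : a' ∈ (R : Subgroup G) := mul_mem (inv_mem hx) (hmem htN hx)
  have hb'R : b' ∈ (R : Subgroup G) := mul_mem hy (hmem htN hy)
  have ha'1 : a' ≠ 1 := fun e => htx (inv_mul_eq_one.1 e).symm
  have hb'1 : b' ≠ 1 := fun e => hty (eq_inv_of_mul_eq_one_right e)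
  have hab' : b' ∉ zpowers a' := fun h => by
    obtain ⟨i, hi⟩ := mem_zpowers_iff.1 h
    refine inv_ne_self R hR hb'R hb'1 ?_
    calc b'⁻¹ = (a' ^ i)⁻¹ := by rw [hi]
      _ = t * a' ^ i * t⁻¹ := by rw [← inv_zpow, ← hta, conj_zpow]
      _ = b' := by rw [hi, htb]
  have hbij' := coord_of R hR ha'R hb'R (hexp _ ha'R) (hexp _ hb'R) hab' ha'1
  -- the actions commute
  have hcom : ∀ n ∈ normalizer ((R : Subgroup G) : Set G), ∀ z ∈ (R : Subgroup G),
      t * (n * z * n⁻¹) * t⁻¹ = n * (t * z * t⁻¹) * n⁻¹ := by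
    intro n hn z hz
    have e1 := hsq _ (mul_mem htN hn) _ (hmem hn (hmem htN hz))
    have e2 : (t * n) ^ 2 * (n * (t * z * t⁻¹) * n⁻¹) * ((t * n) ^ 2)⁻¹ =
        t * n * (t * (n * (n * (t * z * t⁻¹) * n⁻¹) * n⁻¹) * t⁻¹) * n⁻¹ * t⁻¹ := by
      rw [pow_two]; group
    rw [e2, show n * (n * (t * z * t⁻¹) * n⁻¹) * n⁻¹ = n ^ 2 * (t * z * t⁻¹) * (n ^ 2)⁻¹ by rw [pow_two]; group,
      hsq n hn _ (hmem htN hz), htt z hz] at e1
    calc t * (n * z * n⁻¹) * t⁻¹ = t * n * z * n⁻¹ * t⁻¹ := by group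
      _ = _ := e1
  have line : ∀ p : Fin 3 × Fin 3, t * (a' ^ (p.1 : ℕ) * b' ^ (p.2 : ℕ)) * t⁻¹ =
      (a' ^ (p.1 : ℕ))⁻¹ * b' ^ (p.2 : ℕ) := fun p => by
    rw [show t * (a' ^ (p.1 : ℕ) * b' ^ (p.2 : ℕ)) * t⁻¹ =
      (t * a' * t⁻¹) ^ (p.1 : ℕ) * (t * b' * t⁻¹) ^ (p.2 : ℕ) by rw [conj_pow, conj_pow]; group,
      hta, htb, inv_pow]
  have small : ∀ {z : G}, z ∈ (R : Subgroup G) → ∀ i : Fin 3, z ^ (i : ℕ) ≠ 1 →
      z ^ (i : ℕ) = z ∨ z ^ (i : ℕ) = z⁻¹ := by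
    intro z hz i
    fin_cases i
    · intro h; exact absurd (pow_zero z) h
    · exact fun _ => Or.inl (pow_one z)
    · refine fun _ => Or.inr (eq_inv_of_mul_eq_one_left ?_)
      rw [← pow_succ]; exact hexp z hz
  have signs : ∀ n ∈ normalizer ((R : Subgroup G) : Set G),
      (n * a' * n⁻¹ = a' ∨ n * a' * n⁻¹ = a'⁻¹) ∧ (n * b' * n⁻¹ = b' ∨ n * b' * n⁻¹ = b'⁻¹) := by
    intro n hn
    constructor
    · obtain ⟨p, hp⟩ := hbij'.2 ⟨_, hmem hn ha'R⟩
      have hp' : n * a' * n⁻¹ = a' ^ (p.1 : ℕ) * b' ^ (p.2 : ℕ) := (congrArg Subtype.val hp).symm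
      have h1 := hcom n hn a' ha'R
      rw [hta, ← conj_inv, hp', line, mul_inv_rev,
        comm _ (inv_mem (pow_mem hb'R _)) _ (inv_mem (pow_mem ha'R _)), mul_right_inj] at h1
      have h2 : b' ^ (p.2 : ℕ) = 1 := by
        by_contra hne
        exact inv_ne_self R hR (pow_mem hb'R _) hne h1.symm
      rw [h2, mul_one] at hp'
      rw [hp']
      refine small ha'R p.1 fun e => ha'1 ?_
      rw [e, conj_eq_one_iff] at hp'
      exact hp'
    · obtain ⟨p, hp⟩ := hbij'.2 ⟨_, hmem hn hb'R⟩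
      have hp' : n * b' * n⁻¹ = a' ^ (p.1 : ℕ) * b' ^ (p.2 : ℕ) := (congrArg Subtype.val hp).symm
      have h1 := hcom n hn b' hb'R
      rw [htb, hp', line, mul_left_inj] at h1
      have h2 : a' ^ (p.1 : ℕ) = 1 := by
        by_contra hne
        exact inv_ne_self R hR (pow_mem ha'R _) hne h1
      rw [h2, one_mul] at hp'
      rw [hp']
      refine small hb'R p.2 fun e => hb'1 ?_
      rw [e, conj_eq_one_iff] at hp'
      exact hp'
  refine Or.inr ⟨a', b', ⟨ha'R, hb'R, hexp _ ha'R, hexp _ hb'R, hbij', signs, ⟨t, htN, hta, htb⟩, ?_⟩⟩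
  obtain ⟨n, hn, hne⟩ := exists_moving hG R hR hb'R hb'1
  have hnb := (signs n hn).2.resolve_left hne
  rcases (signs n hn).1 with hna | hna
  · exact ⟨n, hn, hna, hnb⟩
  · refine ⟨n * t, mul_mem hn htN, ?_, ?_⟩
    · rw [show n * t * a' * (n * t)⁻¹ = n * (t * a' * t⁻¹) * n⁻¹ by group, hta, ← conj_inv, hna,
        inv_inv]
    · rw [show n * t * b' * (n * t)⁻¹ = n * (t * b' * t⁻¹) * n⁻¹ by group, htb, hnb]

end Cfsg.Agent.SmallOrders.NineTwoPrimes
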