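-- Characters that are invariant under all Galois twists.
--
-- * `exists_int_value`: their values are integers
-- * `vanish_of_prime_degree`, `factorization_eq_one`: a prime degree occurs exactly once in `|G|`
-- * `pow_two_le_seven`: a rational character of degree 4 bounds the Sylow 2-subgroup
import Cfsg.Agent.Lib.SmallOrders.BlockDegrees.InvolutionFormula
import Cfsg.Agent.Lib.SmallOrders.BlockDegrees.Small
import Cfsg.Agent.Lib.Char.PRegular
import Cfsg.Agent.Lib.CharApp.Burnside
import Mathlib.Data.ZMod.Units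

set_option autoImplicit false
set_option linter.unusedSectionVars false

namespace Cfsg.Agent.SmallOrders.NineTwoPrimes

open Cfsg

variable {G : Type*} [Group G]

/-- invariance under the twists -/
def IsRational (χ : G → ℂ) : Prop := ∀ j : ℕ, j.Coprime (Nat.card G) → ∀ g, χ (g ^ j) = χ g

theorem exists_sum_pow [Finite G] {θ : G → ℂ} (hθ : IsGeneralizedCharacter G θ) {g : G} {n : ℕ}
    (hn : g ^ n = 1) (hn0 : n ≠ 0) : ∃ k : ℤ, ∑ i ∈ Finset.range n, θ (g ^ i) = (n : ℂ) * k := by
  have key : ∀ χ : G → ℂ, IsCharacter G χ →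
      ∃ k : ℕ, ∑ i ∈ Finset.range n, χ (g ^ i) = (n : ℂ) * k := by
    rintro χ ⟨d, ρ, rfl⟩
    classical
    obtain ⟨b, μ, hμ, hroot⟩ := Char.exists_eigenbasis ρ g
    have hμn : ∀ i, μ i ^ n = 1 := fun i => by
      obtain ⟨c, hc⟩ := orderOf_dvd_of_pow_eq_one hn
      rw [hc, pow_mul, hroot, one_pow]
    refine ⟨_, (Finset.sum_congr rfl fun i _ => ?_).trans
      (BlockDegrees.card_fiber_mul μ hn0 hμn (b := 1) (one_pow n))⟩
    rw [inv_one, one_pow, mul_one, Char.character_pow ρ g b μ hμ]
  obtain ⟨χ, ψ, hχ, hψ, rfl⟩ := hθ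
  obtain ⟨k, hk⟩ := key χ hχ
  obtain ⟨l, hl⟩ := key ψ hψ
  refine ⟨(k : ℤ) - l, ?_⟩
  simp only [Pi.sub_apply, Finset.sum_sub_distrib, hk, hl]
  push_cast
  ring

theorem pow_coprime_eq [Finite G] {χ : G → ℂ} (hrat : IsRational χ) (g : G) {i : ℕ}
    (hi : i.Coprime (orderOf g)) : χ (g ^ i) = χ g := by
  have : NeZero (Nat.card G) := ⟨Nat.card_pos.ne'⟩
  obtain ⟨u, hu⟩ := ZMod.unitsMap_surjective (orderOf_dvd_natCard g)
    (ZMod.unitOfCoprime i hi)
  have hj : (u : ZMod (Nat.card G)).val.Coprime (Nat.card G) := ZMod.val_coe_unit_coprime u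
  rw [← hrat _ hj g]
  refine congrArg χ (pow_eq_pow_iff_modEq.2 ?_).symm
  have h := congrArg (fun v : (ZMod (orderOf g))ˣ => (v : ZMod (orderOf g))) hu
  simp only [ZMod.unitsMap, Units.coe_map, ZMod.coe_unitOfCoprime] at h
  refine (ZMod.natCast_eq_natCast_iff _ _ _).1 ?_
  rw [← h, ZMod.natCast_val]
  rfl

theorem exists_int_value [Finite G] {χ : G → ℂ} (hχ : IsCharacter G χ) (hrat : IsRational χ)
    (g : G) : ∃ c : ℤ, χ g = c := by
  induction hn : orderOf g using Nat.strong_induction_on generalizing g with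
  | _ n ih =>
    subst hn
    have hn0 : orderOf g ≠ 0 := (orderOf_pos g).ne'
    obtain ⟨k, hk⟩ := exists_sum_pow (Char.isGeneralizedCharacter_of_isCharacter hχ)
      (pow_orderOf_eq_one g) hn0
    classical
    have hsmall : ∀ i ∈ (Finset.range (orderOf g)).filter (fun i => ¬ i.Coprime (orderOf g)),
        ∃ c : ℤ, χ (g ^ i) = c := by
      intro i hi
      refine ih _ ?_ (g ^ i) rfl
      rw [orderOf_pow]
      refine Nat.div_lt_self (orderOf_pos g) ?_
      have h := (Finset.mem_filter.1 hi).2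
      rw [Nat.coprime_comm, Nat.coprime_iff_gcd_eq_one] at h
      have := Nat.gcd_pos_of_pos_left i (orderOf_pos g)
      omega
    choose! c hc using hsmall
    rw [← Finset.sum_filter_add_sum_filter_not _ (fun i => i.Coprime (orderOf g)),
      Finset.sum_congr rfl (fun i hi => pow_coprime_eq hrat g (Finset.mem_filter.1 hi).2),
      Finset.sum_const, nsmul_eq_mul, Finset.sum_congr rfl hc] at hk
    set u := ((Finset.range (orderOf g)).filter fun i => i.Coprime (orderOf g)).card
    have hu : u ≠ 0 := by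
      refine (Finset.card_pos.2 ⟨1 % orderOf g, Finset.mem_filter.2
        ⟨Finset.mem_range.2 (Nat.mod_lt _ (orderOf_pos g)), ?_⟩⟩).ne'
      rw [Nat.coprime_comm]
      rcases Nat.lt_or_ge 1 (orderOf g) with h | h
      · rw [Nat.mod_eq_of_lt h]; exact Nat.coprime_one_right _
      · have h1 : orderOf g = 1 := by omega
        rw [h1]; exact Nat.coprime_one_left _
    refine Char.exists_int_of_isIntegral_mul hu (k := (orderOf g : ℤ) * k -
      ∑ i ∈ (Finset.range (orderOf g)).filter (fun i => ¬ i.Coprime (orderOf g)), c i) ?_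
      (Char.IsCharacter.isIntegral hχ g)
    push_cast
    linear_combination hk

section degree

variable [Finite G] [IsSimpleGroup G] {q : ℕ} {χ : G → ℂ}

theorem value_lt (hG : ¬ IsMulCommutative G) (hχ : IsIrrCharacter G χ) (hne : χ ≠ 1) {n : ℕ}
    (hn : χ 1 = n) {g : G} (hg : g ≠ 1) {c : ℤ} (hc : χ g = c) : c.natAbs < n := by
  have h := BlockDegrees.norm_lt_of_ne_one hG hχ hne hg
  have hd : charDegree χ = n := by
    rw [charDegree, hn, Complex.natCast_re, Nat.floor_natCast]
  rw [hd, hc, Complex.norm_intCast] at h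
  have : ((c.natAbs : ℕ) : ℝ) < n := by rwa [Nat.cast_natAbs, Int.cast_abs]
  exact_mod_cast this

theorem vanish_of_prime_degree (hG : ¬ IsMulCommutative G) (hq : q.Prime)
    (hχ : IsIrrCharacter G χ) (hne : χ ≠ 1) (hrat : IsRational χ) (hdeg : χ 1 = q) {g : G}
    (hg : orderOf g = q) : χ g = 0 := by
  obtain ⟨c, hc⟩ := exists_int_value (Char.IsIrrCharacter.isCharacter hχ) hrat g
  obtain ⟨k, hk⟩ := exists_sum_pow (Char.isGeneralizedCharacter_of_isCharacter
    (Char.IsIrrCharacter.isCharacter hχ)) (hg ▸ pow_orderOf_eq_one g) hq.ne_zero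
  have hlt := value_lt hG hχ hne hdeg (fun e => by rw [e, orderOf_one] at hg; exact hq.ne_one hg.symm) hc
  have e : ∀ i ∈ (Finset.range q).erase 0, χ (g ^ i) = (c : ℂ) := fun i hi => by
    obtain ⟨h0, hi'⟩ := Finset.mem_erase.1 hi
    rw [← hc]
    refine pow_coprime_eq hrat g ?_
    rw [hg]
    exact (hq.coprime_iff_not_dvd.2 fun h => by
      have := Nat.le_of_dvd (by omega) h
      have := Finset.mem_range.1 hi'
      omega).symm
  rw [← Finset.add_sum_erase _ _ (Finset.mem_range.2 hq.pos), Finset.sum_congr rfl e,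
    Finset.sum_const, Finset.card_erase_of_mem (Finset.mem_range.2 hq.pos), Finset.card_range,
    pow_zero, hdeg, nsmul_eq_mul] at hk
  have hk' : (q : ℤ) + ((q - 1 : ℕ) : ℤ) * c = q * k := by exact_mod_cast hk
  have hdvd : (q : ℤ) ∣ c := by
    refine ⟨c + 1 - k, ?_⟩
    rw [Nat.cast_sub hq.one_le] at hk'
    push_cast at hk'
    linear_combination -hk'
  have : c = 0 := Int.eq_zero_of_dvd_of_natAbs_lt_natAbs hdvd (by simpa using hlt)
  rw [hc, this, Int.cast_zero]

/-- the degree `q` divides `|G|` exactly once -/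
theorem factorization_eq_one (hG : ¬ IsMulCommutative G) (hq : q.Prime)
    (hχ : IsIrrCharacter G χ) (hne : χ ≠ 1) (hrat : IsRational χ) (hdeg : χ 1 = q) :
    (Nat.card G).factorization q = 1 := by
  have := Fintype.ofFinite G
  have hqG : q ∣ Nat.card G := by
    obtain ⟨n, -, hn, hd⟩ := Char.IsIrrCharacter.degree_dvd_card hχ
    have : n = q := by exact_mod_cast hn.symm.trans hdeg
    rwa [this] at hd
  refine le_antisymm ?_ ((hq.pow_dvd_iff_le_factorization Nat.card_pos.ne').1 (by simpa using hqG))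
  by_contra hlt
  have : Fact q.Prime := ⟨hq⟩
  obtain ⟨H, hH⟩ := Sylow.exists_subgroup_card_pow_prime (G := G) q
    (n := 2) ((hq.pow_dvd_iff_le_factorization Nat.card_pos.ne').2 (by omega))
  have hgen := Char.isGeneralizedCharacter_of_isCharacter (Char.IsIrrCharacter.isCharacter hχ)
  classical
  by_cases hall : ∀ h : H, h ≠ 1 → χ (h : G) = 0
  · have := Fintype.ofFinite H
    obtain ⟨k, hk⟩ := Char.IsGeneralizedCharacter.classInner_int
      (Char.IsGeneralizedCharacter.restrict hgen H)
      (Char.isGeneralizedCharacter_of_isCharacter (Char.isCharacter_one (G := H)))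
    rw [classInner, Finset.sum_eq_single (1 : H) (fun h _ h1 => by simp [hall h h1])
      (fun h => absurd (Finset.mem_univ _) h), hH] at hk
    simp only [OneMemClass.coe_one, Pi.one_apply, map_one, mul_one, hdeg] at hk
    have hq0 : (q : ℂ) ≠ 0 := Nat.cast_ne_zero.2 hq.ne_zero
    push_cast at hk
    field_simp at hk
    have h1 : (1 : ℤ) = q * k := by exact_mod_cast hk
    have : (q : ℤ) ∣ 1 := ⟨k, h1⟩
    exact hq.ne_one (Nat.eq_one_of_dvd_one (by exact_mod_cast this))
  · push Not at hall
    obtain ⟨h, h1, hh⟩ := hall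
    obtain ⟨i, hi, hord⟩ := (Nat.dvd_prime_pow hq).1 (hH ▸ orderOf_dvd_natCard h)
    rw [← Subgroup.orderOf_coe] at hord
    have hi2 : i = 2 := by
      interval_cases i
      · exact absurd (Subtype.ext (orderOf_eq_one_iff.1 (by simpa using hord))) h1
      · exact absurd (vanish_of_prime_degree hG hq hχ hne hrat hdeg (by simpa using hord)) hh
      · rfl
    subst hi2
    set g : G := (h : G)
    obtain ⟨c, hc⟩ := exists_int_value (Char.IsIrrCharacter.isCharacter hχ) hrat g
    have hgn : g ^ q ^ 2 = 1 := hord ▸ pow_orderOf_eq_one g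
    have hval : ∀ i ∈ Finset.range (q ^ 2), χ (g ^ i) =
        if i = 0 then (q : ℂ) else if q ∣ i then 0 else (c : ℂ) := by
      intro i hi'
      have hilt := Finset.mem_range.1 hi'
      split_ifs with h0 hd
      · rw [h0, pow_zero, hdeg]
      · refine vanish_of_prime_degree hG hq hχ hne hrat hdeg ?_
        rw [orderOf_pow, hord]
        obtain ⟨m, rfl⟩ := hd
        have hm : ¬ q ∣ m := fun hqm => by
          have := Nat.le_of_dvd (Nat.pos_of_ne_zero fun e => h0 (by rw [e, mul_zero])) hqm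
          rw [pow_two] at hilt
          have := Nat.lt_of_mul_lt_mul_left hilt
          omega
        rw [pow_two, Nat.gcd_mul_left, (hq.coprime_iff_not_dvd.2 hm).gcd_eq_one, mul_one,
          Nat.mul_div_cancel_left _ hq.pos]
      · rw [← hc]
        refine pow_coprime_eq hrat g ?_
        rw [hord]
        exact ((hq.coprime_iff_not_dvd.2 hd).symm).pow_right 2
    -- the first two moments
    have hsum : ∀ (u : ℂ) (v : ℂ), ∑ i ∈ Finset.range (q ^ 2),
        (if i = 0 then u else if q ∣ i then 0 else v) = u + ((q ^ 2 - q : ℕ) : ℂ) * v := by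
      intro u v
      rw [← Finset.add_sum_erase _ _ (Finset.mem_range.2 (pow_pos hq.pos 2)), if_pos rfl]
      congr 1
      rw [Finset.sum_congr rfl (fun i hi' => by rw [if_neg (Finset.mem_erase.1 hi').1]),
        Finset.sum_ite, Finset.sum_const_zero, zero_add, Finset.sum_const, nsmul_eq_mul]
      congr 2
      have e : (((Finset.range (q ^ 2)).erase 0).filter fun i => ¬ q ∣ i) =
          (Finset.range (q ^ 2)).filter fun i => ¬ q ∣ i := by
        ext i; simp only [Finset.mem_filter, Finset.mem_erase, Finset.mem_range]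
        exact ⟨fun h => ⟨h.1.2, h.2⟩, fun h => ⟨⟨fun e => h.2 (e ▸ dvd_zero q), h.1⟩, h.2⟩⟩
      have e2 : ((Finset.range (q ^ 2)).filter fun i => q ∣ i) =
          (Finset.range q).image (q * ·) := by
        ext i
        simp only [Finset.mem_filter, Finset.mem_range, Finset.mem_image]
        constructor
        · rintro ⟨hi', m, rfl⟩
          exact ⟨m, Nat.lt_of_mul_lt_mul_left (by rwa [pow_two] at hi'), rfl⟩
        · rintro ⟨m, hm, rfl⟩
          exact ⟨by rw [pow_two]; exact Nat.mul_lt_mul_of_pos_left hm hq.pos, dvd_mul_right _ _⟩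
      have e3 := Finset.card_filter_add_card_filter_not (s := Finset.range (q ^ 2)) (fun i => q ∣ i)
      rw [e2, Finset.card_image_of_injective _ (fun x y hxy => Nat.eq_of_mul_eq_mul_left hq.pos hxy),
        Finset.card_range, Finset.card_range] at e3
      rw [e]
      omega
    obtain ⟨k, hk⟩ := exists_sum_pow hgen hgn (pow_ne_zero 2 hq.ne_zero)
    rw [Finset.sum_congr rfl hval, hsum] at hk
    obtain ⟨l, hl⟩ := exists_sum_pow (Char.IsGeneralizedCharacter.mul hgen hgen) hgn
      (pow_ne_zero 2 hq.ne_zero)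
    rw [Finset.sum_congr rfl (fun i hi' => by
        rw [Pi.mul_apply, hval i hi']; split_ifs <;> ring :
        ∀ i ∈ Finset.range (q ^ 2), (χ * χ) (g ^ i) =
          if i = 0 then (q : ℂ) * q else if q ∣ i then 0 else (c : ℂ) * c), hsum] at hl
    have hle : q ≤ q ^ 2 := Nat.le_self_pow two_ne_zero q
    rw [Nat.cast_sub hle] at hk hl
    push_cast at hk hl
    have hk' : (q : ℤ) + ((q : ℤ) ^ 2 - q) * c = (q : ℤ) ^ 2 * k := by exact_mod_cast hk
    have hl' : (q : ℤ) * q + ((q : ℤ) ^ 2 - q) * (c * c) = (q : ℤ) ^ 2 * l := by exact_mod_cast hl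
    have hq0 : (q : ℤ) ≠ 0 := by exact_mod_cast hq.ne_zero
    have hdvd : (q : ℤ) ∣ c * c := ⟨1 + c * c - l, by
      refine mul_left_cancel₀ hq0 ?_
      linear_combination -hl'⟩
    have hdc : (q : ℤ) ∣ c := ((Nat.prime_iff_prime_int.1 hq).dvd_mul.1 hdvd).elim id id
    have h1 : (q : ℤ) ∣ 1 := by
      obtain ⟨d, hd⟩ := hdc
      refine ⟨k - (q - 1) * d, mul_left_cancel₀ hq0 ?_⟩
      rw [hd] at hk'
      linear_combination hk'
    exact hq.ne_one (Nat.eq_one_of_dvd_one (by exact_mod_cast h1))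

/-- the Sylow 2-subgroup for a rational character of degree 4 -/
theorem pow_two_le_seven (hG : ¬ IsMulCommutative G)
    (hχ : IsIrrCharacter G χ) (hne : χ ≠ 1) (hrat : IsRational χ) (hdeg : χ 1 = 4) {a : ℕ}
    (ha : 2 ^ a ∣ Nat.card G) : a ≤ 7 := by
  classical
  have := Fintype.ofFinite G
  have : Fact (Nat.Prime 2) := ⟨Nat.prime_two⟩
  obtain ⟨S, hS⟩ := Sylow.exists_subgroup_card_pow_prime (G := G) 2 ha
  have := Fintype.ofFinite S
  have hgen := Char.isGeneralizedCharacter_of_isCharacter (Char.IsIrrCharacter.isCharacter hχ)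
  have hone := Char.isGeneralizedCharacter_of_isCharacter (Char.isCharacter_one (G := G))
  set L : List ℤ := [-4, -3, -2, -1, 0, 1, 2, 3] with hL
  have key : ∀ l : List ℤ, IsGeneralizedCharacter G
      (fun g => (l.map fun v : ℤ => χ g - (v : ℂ)).prod) := by
    intro l
    induction l with
    | nil => exact hone
    | cons v l ihl =>
      have h1 := Char.IsGeneralizedCharacter.mul
        (Char.IsGeneralizedCharacter.sub hgen (Char.IsGeneralizedCharacter.intCast_smul hone v)) ihl
      convert h1 using 1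
      funext g
      simp
  obtain ⟨k, hk⟩ := Char.IsGeneralizedCharacter.classInner_int
    (Char.IsGeneralizedCharacter.restrict (key L) S)
    (Char.isGeneralizedCharacter_of_isCharacter (Char.isCharacter_one (G := S)))
  rw [classInner, Finset.sum_eq_single (1 : S) (fun h _ h1 => by
      obtain ⟨c, hc⟩ := exists_int_value (Char.IsIrrCharacter.isCharacter hχ) hrat (h : G)
      have := value_lt hG hχ hne (n := 4) (by simpa using hdeg)
        (fun e => h1 (Subtype.ext e)) hc
      have hmem : c ∈ L := by simp [hL]; omega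
      rw [mul_eq_zero]
      refine Or.inl (List.prod_eq_zero ?_)
      rw [List.mem_map]
      exact ⟨c, hmem, by rw [hc, sub_self]⟩)
    (fun h => absurd (Finset.mem_univ _) h), hS] at hk
  simp only [OneMemClass.coe_one, Pi.one_apply, map_one, mul_one, hdeg, hL] at hk
  norm_num at hk
  have h2 : (2 : ℂ) ^ a ≠ 0 := pow_ne_zero _ two_ne_zero
  field_simp at hk
  have hk' : (40320 : ℤ) = 2 ^ a * k := by exact_mod_cast hk
  by_contra hlt
  have h8 : (256 : ℤ) ∣ 40320 := (pow_dvd_pow 2 (show 8 ≤ a by omega)).trans ⟨k, hk'⟩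
  norm_num at h8

end degree

end Cfsg.Agent.SmallOrders.NineTwoPrimes
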