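-- The integer vectors behind the two-constituent virtual characters.
--
-- * `exists_pair`: a vector of norm 2 has two entries `±1`
-- * `good_of_star`, `good_of_cross`: one such vector meets the total in entries prime to 3
import Cfsg.Agent.EqLemmas
import Mathlib.Algebra.Order.BigOperators.Ring.Finset
import Mathlib.Algebra.BigOperators.Fin
import Mathlib.Tactic.Linarith
import Mathlib.Data.Int.ModEq

set_option autoImplicit false

namespace Cfsg.Agent.SmallOrders.NineTwoPrimes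

variable {ι : Type*} [Fintype ι]

/-- an entry pair of a vector of norm two -/
structure IsPair (a : ι → ℤ) (i j : ι) : Prop where
  ne : i ≠ j
  hi : a i = 1 ∨ a i = -1
  hj : a j = 1 ∨ a j = -1
  rest : ∀ l, l ≠ i → l ≠ j → a l = 0

theorem exists_pair {a : ι → ℤ} (h : ∑ l, a l ^ 2 = 2) : ∃ i j, IsPair a i j := by
  classical
  have hle : ∀ l, a l = 0 ∨ a l = 1 ∨ a l = -1 := fun l => by
    have h1 : a l ^ 2 ≤ 2 := h ▸ Finset.single_le_sum (f := fun x => a x ^ 2)
      (fun x _ => sq_nonneg (a x)) (Finset.mem_univ l)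
    have : -1 ≤ a l ∧ a l ≤ 1 := ⟨by nlinarith, by nlinarith⟩
    omega
  have hc : (Finset.univ.filter fun l => a l ≠ 0).card = 2 := by
    have e : ∑ l, a l ^ 2 = ∑ l ∈ Finset.univ.filter (fun l => a l ≠ 0), (1 : ℤ) := by
      rw [← Finset.sum_filter_ne_zero]
      refine Finset.sum_congr (Finset.filter_congr fun l _ => by simp) fun l hl => ?_
      rcases hle l with e | e | e
      · simp [e] at hl
      · simp [e]
      · simp [e]
    rw [h] at e
    simp at e
    exact_mod_cast e.symm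
  obtain ⟨i, j, hij, he⟩ := Finset.card_eq_two.1 hc
  have hne : ∀ l, a l ≠ 0 ↔ l = i ∨ l = j := fun l => by
    have := Finset.ext_iff.1 he l
    simpa using this
  exact ⟨i, j, hij, (hle i).resolve_left ((hne i).2 (Or.inl rfl)),
    (hle j).resolve_left ((hne j).2 (Or.inr rfl)), fun l h1 h2 => by
      by_contra h3
      exact ((hne l).1 h3).elim h1 h2⟩

theorem IsPair.sum_eq {a : ι → ℤ} {i j : ι} (h : IsPair a i j) (c : ι → ℤ) :
    ∑ l, a l * c l = a i * c i + a j * c j := by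
  classical
  exact Finset.sum_eq_add i j h.ne (fun l _ hl => by rw [h.rest l hl.1 hl.2, zero_mul])
    (fun hl => absurd (Finset.mem_univ i) hl) (fun hl => absurd (Finset.mem_univ j) hl)

theorem IsPair.symm {a : ι → ℤ} {i j : ι} (h : IsPair a i j) : IsPair a j i :=
  ⟨h.ne.symm, h.hj, h.hi, fun l h1 h2 => h.rest l h2 h1⟩

theorem eq_of_split {a : Fin 4 → ι → ℤ} (hn : ∀ k, ∑ l, a k l ^ 2 = 2)
    (hi : ∀ k m, k ≠ m → ∑ l, a k l * a m l = 1) {i j : ι} {x y : ℤ} (hx : x = 1 ∨ x = -1)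
    (hy : y = 1 ∨ y = -1) {k m n : Fin 4} (hkn : k ≠ n) (hki : a k i = x) (hkj : a k j = 0)
    (hni : a n i = x) (hnj : a n j = 0) (hmi : a m i = 0) (hmj : a m j = y) : False := by
  obtain ⟨p, q, hm'⟩ := exists_pair (hn m)
  obtain ⟨l, hlj, hl⟩ : ∃ l, l ≠ j ∧ a m l ≠ 0 := by
    by_cases hpj : p = j
    · exact ⟨q, fun e => hm'.ne (hpj.trans e.symm), by rcases hm'.hj with u | u <;> omega⟩
    · exact ⟨p, hpj, by rcases hm'.hi with u | u <;> omega⟩
  have hmem : ∀ (s : Fin 4) {p q : ι}, IsPair (a s) p q → ∀ z, a s z ≠ 0 → z = p ∨ z = q :=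
    fun s p q hs z hz => by
      by_contra hc
      rw [not_or] at hc
      exact hz (hs.rest z hc.1 hc.2)
  have hjm : a m j ≠ 0 := by omega
  have hother : ∀ s, s ≠ m → a s j = 0 → a s l = a m l := by
    intro s hsm hsj
    have hs := hi m s hsm.symm
    rw [hm'.sum_eq] at hs
    rcases hmem m hm' j hjm with rfl | rfl <;> rcases hmem m hm' l hl with rfl | rfl
    · exact absurd rfl hlj
    · rw [hsj, mul_zero, zero_add] at hs
      rcases hm'.hj with u | u <;> rw [u] at hs ⊢ <;> omega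
    · rw [hsj, mul_zero, add_zero] at hs
      rcases hm'.hi with u | u <;> rw [u] at hs ⊢ <;> omega
    · exact absurd rfl hlj
  have hmk : k ≠ m := fun e => by rw [e] at hkj; exact hjm hkj
  have hmn : n ≠ m := fun e => by rw [e] at hnj; exact hjm hnj
  have e1 := hother k hmk hkj
  have e2 := hother n hmn hnj
  obtain ⟨p', q', hk'⟩ := exists_pair (hn k)
  have hli : l ≠ i := fun e => hl (e ▸ hmi)
  have hne_i : a k i ≠ 0 := by omega
  have hne_l : a k l ≠ 0 := by omega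
  have hs := hi k n hkn
  rw [hk'.sum_eq] at hs
  rcases hmem k hk' i hne_i with rfl | rfl <;> rcases hmem k hk' l hne_l with rfl | rfl
  · exact hli rfl
  · rw [hni, e2, ← e1, hki] at hs
    rcases hk'.hj with u | u <;> rw [u] at hs <;> rcases hx with rfl | rfl <;> omega
  · rw [hni, e2, ← e1, hki] at hs
    rcases hk'.hi with u | u <;> rw [u] at hs <;> rcases hx with rfl | rfl <;> omega
  · exact hli rfl

/-- four vectors of norm 2 with mutual products 1 -/
theorem good_of_star (a : Fin 4 → ι → ℤ) (hn : ∀ k, ∑ l, a k l ^ 2 = 2)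
    (hi : ∀ k m, k ≠ m → ∑ l, a k l * a m l = 1) :
    ∃ i j, IsPair (a 0) i j ∧ ¬ (3 : ℤ) ∣ ∑ k, a k i ∧ ¬ (3 : ℤ) ∣ ∑ k, a k j := by
  obtain ⟨i, j, h⟩ := exists_pair (hn 0)
  have hv : ∀ k l, a k l = 0 ∨ a k l = 1 ∨ a k l = -1 := fun k l => by
    obtain ⟨p, q, hpq⟩ := exists_pair (hn k)
    by_cases h1 : l = p
    · subst h1; exact Or.inr hpq.hi
    by_cases h2 : l = q
    · subst h2; exact Or.inr hpq.hj
    exact Or.inl (hpq.rest l h1 h2)
  have hone : ∀ k, k ≠ 0 → (a k i = a 0 i ∧ a k j = 0) ∨ (a k i = 0 ∧ a k j = a 0 j) := by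
    intro k hk
    have h1 := hi 0 k hk.symm
    rw [h.sum_eq] at h1
    rcases h.hi with e | e <;> rcases h.hj with e' | e' <;> rcases hv k i with u | u | u <;>
      rcases hv k j with u' | u' | u' <;> rw [e, e', u, u'] at h1 <;> rw [e, e', u, u'] <;> omega
  refine ⟨i, j, h, ?_⟩
  rw [Fin.sum_univ_four, Fin.sum_univ_four]
  have L := @eq_of_split _ _ a hn hi i j _ _ h.hi h.hj
  have R := @eq_of_split _ _ a hn hi j i _ _ h.hj h.hi
  have k1 := hone 1 (by decide)
  have k2 := hone 2 (by decide)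
  have k3 := hone 3 (by decide)
  rcases k1 with ⟨x1, y1⟩ | ⟨x1, y1⟩ <;> rcases k2 with ⟨x2, y2⟩ | ⟨x2, y2⟩ <;>
    rcases k3 with ⟨x3, y3⟩ | ⟨x3, y3⟩
  case inl.inl.inr => exact (L (k := 1) (m := 3) (n := 2) (by decide) x1 y1 x2 y2 x3 y3).elim
  case inl.inr.inl => exact (L (k := 1) (m := 2) (n := 3) (by decide) x1 y1 x3 y3 x2 y2).elim
  case inr.inl.inl => exact (L (k := 2) (m := 1) (n := 3) (by decide) x2 y2 x3 y3 x1 y1).elim
  case inr.inr.inl => exact (R (k := 1) (m := 3) (n := 2) (by decide) y1 x1 y2 x2 y3 x3).elim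
  case inr.inl.inr => exact (R (k := 1) (m := 2) (n := 3) (by decide) y1 x1 y3 x3 y2 x2).elim
  case inl.inr.inr => exact (R (k := 2) (m := 1) (n := 3) (by decide) y2 x2 y3 x3 y1 x1).elim
  all_goals rcases h.hi with u | u <;> rcases h.hj with u' | u' <;> constructor <;> omega

theorem coeff_cases {e x f y : ℤ} (he : e = 1 ∨ e = -1) (hf : f = 1 ∨ f = -1)
    (h : e * x + f * y = 2) (hs : x ^ 2 + y ^ 2 ≤ 8) :
    (x = e ∧ y = f) ∨ (x = 2 * e ∧ y = 0) ∨ (x = 0 ∧ y = 2 * f) := by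
  have hx : e * x ≤ 2 := by rcases he with rfl | rfl <;> rcases hf with rfl | rfl <;> nlinarith
  have hx' : 0 ≤ e * x := by rcases he with rfl | rfl <;> rcases hf with rfl | rfl <;> nlinarith
  rcases he with rfl | rfl <;> rcases hf with rfl | rfl <;> omega

/-- two orthogonal vectors of norm 2, a vector of norm 8 and positive degrees -/
theorem good_of_cross {a b c D : ι → ℤ} (ha : ∑ l, a l ^ 2 = 2) (hb : ∑ l, b l ^ 2 = 2)
    (hc : ∑ l, c l ^ 2 = 8) (hab : ∑ l, a l * b l = 0) (hac : ∑ l, a l * c l = 2)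
    (hbc : ∑ l, b l * c l = 2) (haD : ∑ l, a l * D l = -1) (hbD : ∑ l, b l * D l = -1)
    (hcD : ∑ l, c l * D l = -1) (hD : ∀ l, 0 < D l) :
    (∃ i j, IsPair a i j ∧ ¬ (3 : ℤ) ∣ c i ∧ ¬ (3 : ℤ) ∣ c j) ∨
      (∃ i j, IsPair b i j ∧ ¬ (3 : ℤ) ∣ c i ∧ ¬ (3 : ℤ) ∣ c j) := by
  classical
  have two : ∀ p q, p ≠ q → c p ^ 2 + c q ^ 2 ≤ 8 := fun p q hpq => by
    rw [← hc, ← Finset.sum_pair (f := fun l => c l ^ 2) hpq]
    exact Finset.sum_le_sum_of_subset_of_nonneg (Finset.subset_univ _) fun _ _ _ => sq_nonneg _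
  have side : ∀ x : ι → ℤ, ∑ l, x l ^ 2 = 2 → ∑ l, x l * c l = 2 →
      ∃ i j, IsPair x i j ∧ ((¬ (3 : ℤ) ∣ c i ∧ ¬ (3 : ℤ) ∣ c j) ∨ (c i = 2 * x i ∧ c j = 0)) := by
    intro x hx hxc
    obtain ⟨i, j, h⟩ := exists_pair hx
    rw [h.sum_eq] at hxc
    rcases coeff_cases h.hi h.hj hxc (two i j h.ne) with ⟨e1, e2⟩ | e | ⟨e1, e2⟩
    · exact ⟨i, j, h, Or.inl (by rcases h.hi with u | u <;> rcases h.hj with u' | u' <;>
        constructor <;> omega)⟩
    · exact ⟨i, j, h, Or.inr e⟩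
    · exact ⟨j, i, h.symm, Or.inr ⟨e2, e1⟩⟩
  obtain ⟨i, j, h, hi⟩ := side a ha hac
  obtain ⟨p, q, h', hp⟩ := side b hb hbc
  rcases hi with hgood | ⟨ci, cj⟩
  · exact Or.inl ⟨i, j, h, hgood⟩
  rcases hp with hgood | ⟨cp, cq⟩
  · exact Or.inr ⟨p, q, h', hgood⟩
  exfalso
  have ai : a i ≠ 0 := by rcases h.hi with u | u <;> omega
  have bp : b p ≠ 0 := by rcases h'.hi with u | u <;> omega
  rw [h.sum_eq] at haD hab
  rw [h'.sum_eq] at hbD
  by_cases hip : i = p
  · subst hip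
    have hb' : b i = a i := by omega
    by_cases hjq : j = q
    · subst hjq
      rw [hb'] at hab hbD
      have := hD j
      rcases h.hi with u | u <;> rcases h.hj with u' | u' <;> rcases h'.hj with v | v <;>
        simp only [u, u', v] at hab hbD haD <;> omega
    · rw [h'.rest j h.ne.symm hjq, hb'] at hab
      rcases h.hi with u | u <;> rw [u] at hab <;> omega
  · -- `i ≠ p`: the norm of `c` is used up by the two
    have hrest : ∀ l, l ≠ i → l ≠ p → c l = 0 := fun l hl hl' => by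
      have h3 : ∑ x ∈ ({i, p, l} : Finset ι), c x ^ 2 ≤ 8 := hc ▸
        Finset.sum_le_sum_of_subset_of_nonneg (Finset.subset_univ _) fun _ _ _ => sq_nonneg _
      rw [Finset.sum_insert (by simp [hip, Ne.symm hl]), Finset.sum_pair hl'.symm, ci, cp] at h3
      have : c l ^ 2 ≤ 0 := by
        rcases h.hi with u | u <;> rcases h'.hi with v | v <;> rw [u, v] at h3 <;> nlinarith
      exact pow_eq_zero_iff two_ne_zero |>.1 (le_antisymm this (sq_nonneg _))
    rw [Finset.sum_eq_add i p hip (fun l _ hl => by rw [hrest l hl.1 hl.2, zero_mul])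
      (fun hl => absurd (Finset.mem_univ i) hl) (fun hl => absurd (Finset.mem_univ p) hl),
      ci, cp] at hcD
    rcases h.hi with u | u <;> rcases h'.hi with v | v <;> rw [u, v] at hcD <;> omega

end Cfsg.Agent.SmallOrders.NineTwoPrimes
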