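-- From a virtual character `A` of norm 2 to two rational characters of neighbouring degrees.
--
-- * `coef`: the coefficients of a virtual character
-- * `exists_degrees`: the two constituents of `A` are rational, of degree prime to 3
import Cfsg.Agent.Lib.SmallOrders.NineTwoPrimes.Vectors
import Cfsg.Agent.Lib.SmallOrders.NineTwoPrimes.Rational
import Cfsg.Agent.Lib.Char.Integral
import Cfsg.Agent.Lib.Char.Virtual
import Cfsg.Agent.Lib.GaloisPow.Twist
import Cfsg.Agent.Lib.Blocks.Simple
import Cfsg.Agent.Lib.CentralChar.Fixed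

set_option autoImplicit false
set_option linter.unusedSectionVars false

namespace Cfsg.Agent.SmallOrders.NineTwoPrimes

open Cfsg
open scoped ComplexConjugate

variable {G : Type*} [Group G] [Finite G]

open Classical in
/-- the integer coefficient of `χ` in `θ` -/
noncomputable def coef [Fintype G] (θ : G → ℂ) (χ : IrrCharacter G) : ℤ :=
  if h : ∃ m : ℤ, classInner θ (χ : G → ℂ) = m then h.choose else 0

/-- the degree of an irreducible character -/
noncomputable def degZ (χ : IrrCharacter G) : ℤ := (charDegree (χ : G → ℂ) : ℤ)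

theorem classInner_irr_eq_coef [Fintype G] {θ : G → ℂ} (hθ : IsGeneralizedCharacter G θ)
    (χ : IrrCharacter G) : classInner θ (χ : G → ℂ) = coef θ χ := by
  have h : ∃ m : ℤ, classInner θ (χ : G → ℂ) = m := Char.IsGeneralizedCharacter.classInner_int hθ
    (Char.isGeneralizedCharacter_of_isCharacter (Char.IsIrrCharacter.isCharacter χ.2))
  rw [coef, dif_pos h]
  exact h.choose_spec

theorem classInner_eq_coef [Fintype G] [Fintype (IrrCharacter G)] {θ η : G → ℂ}
    (hθ : IsGeneralizedCharacter G θ) (hη : IsGeneralizedCharacter G η) :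
    classInner θ η = ((∑ χ, coef θ χ * coef η χ : ℤ) : ℂ) := by
  rw [Char.classInner_eq_sum (Char.IsGeneralizedCharacter.isClassFunction hθ)]
  push_cast
  exact Finset.sum_congr rfl fun χ _ => by
    rw [classInner_irr_eq_coef hθ, classInner_irr_eq_coef hη, map_intCast]

theorem degZ_pos (χ : IrrCharacter G) : 0 < degZ χ := by
  have := Blocks.charDegree_pos χ
  rw [degZ]; omega

theorem apply_one_eq_coef [Fintype G] [Fintype (IrrCharacter G)] {θ : G → ℂ}
    (hθ : IsGeneralizedCharacter G θ) : θ 1 = ((∑ χ, coef θ χ * degZ χ : ℤ) : ℂ) := by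
  conv_lhs => rw [Char.classFunction_eq_sum (Char.IsGeneralizedCharacter.isClassFunction hθ)]
  rw [Finset.sum_apply]
  push_cast
  refine Finset.sum_congr rfl fun χ _ => ?_
  rw [Pi.smul_apply, smul_eq_mul, classInner_irr_eq_coef hθ, degZ, Int.cast_natCast,
    Blocks.charDegree_cast]

theorem classInner_reindex [Fintype G] {j : ℕ} (hj : j.Coprime (Nat.card G)) (φ ψ : G → ℂ) :
    classInner (fun g => φ (g ^ j)) (fun g => ψ (g ^ j)) = classInner φ ψ := by
  rw [classInner, classInner]
  congr 1
  exact Equiv.sum_comp (powCoprime hj.symm) fun g => φ g * conj (ψ g)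

/-- `|G| ⟨T, χ⟩` is divisible by `9 χ(1)` when `T` takes the values `0` and `9` -/
theorem not_three_dvd_degree [Fintype G] {M : ℕ} (hcard : Nat.card G = 9 * M) (hM : ¬ 3 ∣ M)
    {T : G → ℂ} (hTc : IsClassFunction G T) (hT : ∀ g, T g = 0 ∨ T g = 9) (χ : IrrCharacter G)
    {c : ℤ} (hc : classInner T (χ : G → ℂ) = c) (hc3 : ¬ (3 : ℤ) ∣ c) :
    ¬ 3 ∣ charDegree (χ : G → ℂ) := by
  classical
  have key : IsIntegral ℤ ((∑ g, T g / 9 * conj ((χ : G → ℂ) g)) / conj ((χ : G → ℂ) 1)) := by
    obtain ⟨n, ρ, hρ, he⟩ := Char.IsIrrCharacter.conj χ.2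
    have h1 : conj ((χ : G → ℂ) 1) = (Module.finrank ℂ (Fin n → ℂ) : ℂ) := by
      rw [← Representation.char_one ρ, he]
    have h := Char.isIntegral_groupSum_div_degree ρ (f := fun g => T g / 9)
      (fun g x => by simp only [hTc g x]) fun g => by
        rcases hT g with e | e <;> rw [e]
        · simpa using isIntegral_zero
        · norm_num; exact isIntegral_one
    rw [he] at h
    rw [h1]
    exact h
  have hsum : ∑ g, T g / 9 * conj ((χ : G → ℂ) g) = (M : ℂ) * c := by
    have h := Char.card_mul_classInner T (χ : G → ℂ)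
    rw [hc, hcard] at h
    push_cast at h
    rw [Finset.sum_congr rfl fun g _ => show T g / 9 * conj ((χ : G → ℂ) g) =
      (9 : ℂ)⁻¹ * (T g * conj ((χ : G → ℂ) g)) by ring, ← Finset.mul_sum, ← h]
    ring
  rw [hsum, ← Blocks.charDegree_cast, map_natCast] at key
  have habs : IsIntegral ℤ (((M * c.natAbs : ℕ) : ℂ) / (charDegree (χ : G → ℂ) : ℂ)) := by
    rcases Int.natAbs_eq c with e | e
    · have : (c : ℂ) = (c.natAbs : ℂ) := by conv_lhs => rw [e, Int.cast_natCast]
      rw [this] at key
      push_cast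
      exact key
    · have : (c : ℂ) = -(c.natAbs : ℂ) := by
        conv_lhs => rw [e, Int.cast_neg, Int.cast_natCast]
      rw [this, mul_neg, neg_div] at key
      push_cast
      simpa using key.neg
  have hd := Char.nat_dvd_of_isIntegral_div (Blocks.charDegree_pos χ).ne' habs
  intro h3
  rcases Nat.prime_three.dvd_mul.1 (h3.trans hd) with h | h
  · exact hM h
  · exact hc3 (Int.natCast_dvd.2 h)

/-- the conclusion of the character theoretic part -/
def HasDegreePair (G : Type*) [Group G] : Prop :=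
  ∃ s t : IrrCharacter G, (s : G → ℂ) ≠ 1 ∧ (t : G → ℂ) ≠ 1 ∧
    IsRational (s : G → ℂ) ∧ IsRational (t : G → ℂ) ∧
    2 ≤ charDegree (s : G → ℂ) ∧ 2 ≤ charDegree (t : G → ℂ) ∧
    ¬ 3 ∣ charDegree (s : G → ℂ) ∧ ¬ 3 ∣ charDegree (t : G → ℂ) ∧
    charDegree (s : G → ℂ) = charDegree (t : G → ℂ) + 1

theorem exists_degrees [Fintype G] [Fintype (IrrCharacter G)] [IsSimpleGroup G]
    (hG : ¬ IsMulCommutative G) {M : ℕ} (hcard : Nat.card G = 9 * M) (hM : ¬ 3 ∣ M)
    {A T : G → ℂ} (hA : IsGeneralizedCharacter G A) (hA1 : A 1 = -1)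
    (hA0 : classInner A 1 = 0) (hApow : ∀ j : ℕ, j.Coprime (Nat.card G) → ∀ g, A (g ^ j) = A g)
    (hTgen : IsGeneralizedCharacter G T) (hT : ∀ g, T g = 0 ∨ T g = 9)
    {i j : IrrCharacter G} (hp : IsPair (coef A) i j)
    (hi3 : ¬ (3 : ℤ) ∣ coef (T - 1) i) (hj3 : ¬ (3 : ℤ) ∣ coef (T - 1) j) : HasDegreePair G := by
  classical
  have hna : ∃ a b : G, a * b ≠ b * a := by
    by_contra! h
    exact hG ⟨⟨h⟩⟩
  have hne : ∀ χ, coef A χ ≠ 0 → (χ : G → ℂ) ≠ 1 := fun χ hχ e => hχ (by
    have := classInner_irr_eq_coef hA χ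
    rw [e, hA0] at this
    exact_mod_cast this.symm)
  have hine := hne i (by rcases hp.hi with h | h <;> omega)
  have hjne := hne j (by rcases hp.hj with h | h <;> omega)
  have htwo : ∀ χ : IrrCharacter G, (χ : G → ℂ) ≠ 1 → 2 ≤ degZ χ := fun χ hχ => by
    have := degZ_pos χ
    have : degZ χ ≠ 1 := fun e => hχ (by
      refine (Blocks.eq_one_of_degree_one hna ?_).trans rfl
      rw [← Blocks.charDegree_cast]
      rw [degZ] at e
      exact_mod_cast e)
    omega
  have hdeg : coef A i * degZ i + coef A j * degZ j = -1 := by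
    have h := apply_one_eq_coef hA
    rw [hA1, hp.sum_eq] at h
    exact_mod_cast h.symm
  have hi2 := htwo i hine
  have hj2 := htwo j hjne
  have hij : degZ i ≠ degZ j := by
    intro e
    rcases hp.hi with h | h <;> rcases hp.hj with h' | h' <;> rw [h, h', e] at hdeg <;> omega
  have hrat : ∀ χ, χ = i ∨ χ = j → IsRational (χ : G → ℂ) := by
    intro χ hχ k hk g
    set χ' := GaloisPow.powIrr hk χ
    have hd : degZ χ' = degZ χ := by
      rw [degZ, degZ, charDegree, charDegree, GaloisPow.powIrr_apply, one_pow]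
    have hc : coef A χ' = coef A χ := by
      have h1 := classInner_irr_eq_coef hA χ'
      have h2 : classInner A (χ' : G → ℂ) = classInner A (χ : G → ℂ) := by
        rw [← classInner_reindex hk A (χ : G → ℂ)]
        exact congrArg (fun F => classInner F (χ' : G → ℂ)) (funext fun x => (hApow k hk x).symm)
      rw [h2, classInner_irr_eq_coef hA χ] at h1
      exact_mod_cast h1.symm
    have hne0 : coef A χ ≠ 0 := by
      rcases hχ with rfl | rfl
      · rcases hp.hi with h | h <;> omega
      · rcases hp.hj with h | h <;> omega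
    have hmem : χ' = i ∨ χ' = j := by
      by_contra hh
      rw [not_or] at hh
      rw [← hc, hp.rest _ hh.1 hh.2] at hne0
      exact hne0 rfl
    have : χ' = χ := by
      rcases hχ with rfl | rfl <;> rcases hmem with e | e <;>
        first | exact e | (rw [e] at hd; omega)
    exact congrFun (congrArg Subtype.val this) g
  have h3 : ∀ χ : IrrCharacter G, (χ : G → ℂ) ≠ 1 → ¬ (3 : ℤ) ∣ coef (T - 1) χ → ¬ 3 ∣ charDegree (χ : G → ℂ) := by
    intro χ hχ hc
    refine not_three_dvd_degree hcard hM (Char.IsGeneralizedCharacter.isClassFunction hTgen) hT χ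
      (c := coef (T - 1) χ) ?_ hc
    have hone := Char.isGeneralizedCharacter_of_isCharacter (Char.isCharacter_one (G := G))
    rw [← classInner_irr_eq_coef (Char.IsGeneralizedCharacter.sub hTgen hone),
      Char.classInner_sub_left, Char.classInner_irr_of_ne Char.isIrrCharacter_one χ.2 hχ.symm,
      sub_zero]
  have fin : ∀ p q : IrrCharacter G, (p = i ∧ q = j) ∨ (p = j ∧ q = i) →
      degZ p = degZ q + 1 → HasDegreePair G := by
    intro p q hpq he
    simp only [degZ] at he hi2 hj2
    rcases hpq with ⟨rfl, rfl⟩ | ⟨rfl, rfl⟩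
    · exact ⟨p, q, hine, hjne, hrat p (Or.inl rfl), hrat q (Or.inr rfl), by omega, by omega,
        h3 p hine hi3, h3 q hjne hj3, by omega⟩
    · exact ⟨p, q, hjne, hine, hrat p (Or.inr rfl), hrat q (Or.inl rfl), by omega, by omega,
        h3 p hjne hj3, h3 q hine hi3, by omega⟩
  rcases hp.hi with h | h <;> rcases hp.hj with h' | h' <;> rw [h, h'] at hdeg
  · omega
  · exact fin j i (Or.inr ⟨rfl, rfl⟩) (by omega)
  · exact fin i j (Or.inl ⟨rfl, rfl⟩) (by omega)
  · omega

end Cfsg.Agent.SmallOrders.NineTwoPrimes
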