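-- The two cases: neighbouring rational degrees prime to 3.
--
-- * `degreePair_of_inverted`: `N(R)` acts on `R` as `±1`
-- * `degreePair_of_klein`: `N(R)` acts with all four sign patterns
import Cfsg.Agent.Lib.SmallOrders.NineTwoPrimes.Local
import Cfsg.Agent.Lib.SmallOrders.NineTwoPrimes.Pairs
import Mathlib.GroupTheory.FiniteAbelian.Duality
import Mathlib.RingTheory.RootsOfUnity.AlgebraicallyClosed
import Mathlib.Analysis.Complex.Polynomial.Basic

set_option autoImplicit false
set_option linter.unusedSectionVars false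

namespace Cfsg.Agent.SmallOrders.NineTwoPrimes

open Cfsg Subgroup
open scoped ComplexConjugate IsMulCommutative

variable {G : Type*} [Group G] [Finite G] [Fact (Nat.Prime 3)]

/-- the bookkeeping for a single `v` -/
structure Good (R : Sylow 3 G) (v : ↥(R : Subgroup G) → ℂ) : Prop where
  stable : Stable v
  gen : IsGeneralizedCharacter (R : Subgroup G) v
  zero : v 1 = 0

theorem Good.mul {R : Sylow 3 G} {v w : ↥(R : Subgroup G) → ℂ} (hv : Good R v) (hw : Good R w) :
    Good R (v * w) where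
  stable r s h := by simp only [Pi.mul_apply, hv.stable r s h, hw.stable r s h]
  gen := Char.IsGeneralizedCharacter.mul hv.gen hw.gen
  zero := by simp [hv.zero]

section shifted

variable [Fintype G] {M k : ℕ} (R : Sylow 3 G) [Fintype (R : Subgroup G)]
  (hR : Nat.card (R : Subgroup G) = 9) (hcard : Nat.card G = 9 * M) (hM : ¬ 3 ∣ M)
  (hk0 : M ∣ k) (hk1 : k ≡ 1 [MOD 9])

/-- the lifted function less the principal character -/
noncomputable def shifted (k : ℕ) (v : ↥(R : Subgroup G) → ℂ) : G → ℂ :=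
  sect (R : Subgroup G) k v - 1

include hR hcard hk0 hk1 in
theorem sect_one_inner {v : ↥(R : Subgroup G) → ℂ} (hv : Stable v) :
    classInner (sect (R : Subgroup G) k v) 1 =
      ∑ r : (R : Subgroup G), v r * omega (R : Subgroup G) r := by
  have h := classInner_sect R hR hcard hk0 hk1 hv (w := fun _ => (1 : ℂ)) fun _ _ _ => rfl
  rw [sect_const R hcard hk0] at h
  exact h.trans (Finset.sum_congr rfl fun r _ => by rw [map_one, mul_one])

include hR hcard hk0 hk1 in
theorem shifted_inner {v w : ↥(R : Subgroup G) → ℂ} (hv : Good R v) (hw : Good R w) {I x y : ℝ}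
    (hI : ∑ r : (R : Subgroup G), v r * conj (w r) * omega (R : Subgroup G) r = (I : ℂ))
    (hx : ∑ r : (R : Subgroup G), v r * omega (R : Subgroup G) r = (x : ℂ))
    (hy : ∑ r : (R : Subgroup G), w r * omega (R : Subgroup G) r = (y : ℂ)) :
    classInner (shifted R k v) (shifted R k w) = ((I - x - y + 1 : ℝ) : ℂ) := by
  have h1 := sect_one_inner R hR hcard hk0 hk1 hv.stable
  have h2 := sect_one_inner R hR hcard hk0 hk1 hw.stable
  rw [hx] at h1
  rw [hy] at h2
  have h3 : classInner (1 : G → ℂ) (sect (R : Subgroup G) k w) = (y : ℂ) := by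
    rw [← Char.classInner_conj_symm, h2, Complex.conj_ofReal]
  simp only [shifted, Char.classInner_sub_left, Char.classInner_sub_right,
    classInner_sect R hR hcard hk0 hk1 hv.stable hw.stable, hI, h1, h3,
    Char.classInner_irr_self Char.isIrrCharacter_one]
  push_cast
  ring

include hcard hM hk0 hk1 in
theorem shifted_gen {v : ↥(R : Subgroup G) → ℂ} (hv : Good R v) :
    IsGeneralizedCharacter G (shifted R k v) :=
  Char.IsGeneralizedCharacter.sub (sect_isGeneralizedCharacter R hcard hM hk0 hk1 hv.stable hv.gen)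
    (Char.isGeneralizedCharacter_of_isCharacter Char.isCharacter_one)

theorem shifted_apply_one {v : ↥(R : Subgroup G) → ℂ} (hv : Good R v) :
    shifted R k v 1 = -1 := by
  rw [shifted, Pi.sub_apply, sect, one_pow,
    lift_of_conj hv.stable (r := 1) (by rw [OneMemClass.coe_one]), hv.zero,
    Pi.one_apply, zero_sub]

include hR hcard hM hk0 hk1 in
theorem finish [IsSimpleGroup G] (hG : ¬ IsMulCommutative G) [Fintype (IrrCharacter G)]
    {v T : ↥(R : Subgroup G) → ℂ} (hv : Good R v) (hT : Good R T) (hv1 : ∑ r : (R : Subgroup G),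
      v r * omega (R : Subgroup G) r = 1)
    (hvpow : ∀ j : ℕ, j.Coprime 3 → ∀ r, v (r ^ j) = v r) (hT9 : ∀ r, T r = 0 ∨ T r = 9)
    {i j : IrrCharacter G} (hp : IsPair (coef (shifted R k v)) i j)
    (hi : ¬ (3 : ℤ) ∣ coef (shifted R k T) i) (hj : ¬ (3 : ℤ) ∣ coef (shifted R k T) j) :
    HasDegreePair G := by
  have hconj : ∀ g : G, ∃ r : (R : Subgroup G), IsConj (g ^ k) (r : G) := fun g =>
    exists_conj_of_pow_nine R (pow_exponent_nine hcard hk0 g)
  refine exists_degrees hG hcard hM (shifted_gen R hcard hM hk0 hk1 hv) (shifted_apply_one R hv) ?_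
    (fun n hn g => ?_)
    (sect_isGeneralizedCharacter R hcard hM hk0 hk1 hT.stable hT.gen) (fun g => ?_) hp hi hj
  · rw [shifted, Char.classInner_sub_left, sect_one_inner R hR hcard hk0 hk1 hv.stable, hv1,
      Char.classInner_irr_self Char.isIrrCharacter_one, sub_self]
  · simp only [shifted, Pi.sub_apply, Pi.one_apply]
    refine congrArg (· - 1) (sect_pow hv.stable (hvpow n ?_) (hconj g))
    exact Nat.Coprime.coprime_dvd_right (Dvd.dvd.mul_right (show 3 ∣ 9 by norm_num) M) (hcard ▸ hn)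
  · obtain ⟨r, hr⟩ := hconj g
    rw [sect, lift_of_conj hT.stable hr]
    exact hT9 r

end shifted

section inverted

variable {R : Sylow 3 G}

/-- `2 - μ - μ⁻¹` -/
noncomputable def twist (μ : ↥(R : Subgroup G) →* ℂˣ) (r : (R : Subgroup G)) : ℂ :=
  2 - (μ r : ℂ) - ((μ r⁻¹ : ℂˣ) : ℂ)

theorem sum_hom (hR : Nat.card (R : Subgroup G) = 9) [Fintype (R : Subgroup G)]
    (μ : ↥(R : Subgroup G) →* ℂˣ) [Decidable (μ = 1)] :
    ∑ r, (μ r : ℂ) = if μ = 1 then 9 else 0 := by
  split_ifs with h
  · subst h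
    simp [← Nat.card_eq_fintype_card, hR]
  · exact sum_hom_units_eq_zero ((Units.coeHom ℂ).comp μ) fun e => h (MonoidHom.ext fun r =>
      Units.ext (DFunLike.congr_fun e r))

theorem good_twist (hR : Nat.card (R : Subgroup G) = 9) (hI : Inverted R)
    (μ : ↥(R : Subgroup G) →* ℂˣ) : Good R (twist μ) where
  stable r s h := by
    rcases hI.conj_cases hR r.2 s.2 h with e | e
    · rw [show s = r from Subtype.ext e]
    · rw [show s = r⁻¹ from Subtype.ext (by rw [Subgroup.coe_inv]; exact e), twist, twist, inv_inv]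
      ring
  gen := by
    have hone := Char.isGeneralizedCharacter_of_isCharacter
      (Char.isCharacter_one (G := (R : Subgroup G)))
    have hμ := Char.isGeneralizedCharacter_of_isCharacter (Char.IsIrrCharacter.isCharacter
      (Char.isIrrCharacter_of_hom ((Units.coeHom ℂ).comp μ)))
    have hμ' := Char.isGeneralizedCharacter_of_isCharacter (Char.IsIrrCharacter.isCharacter
      (Char.isIrrCharacter_of_hom ((Units.coeHom ℂ).comp μ⁻¹)))
    have h := Char.IsGeneralizedCharacter.sub (Char.IsGeneralizedCharacter.sub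
      (Char.IsGeneralizedCharacter.intCast_smul hone 2) hμ) hμ'
    convert h using 1
    funext r
    simp [twist]
  zero := by norm_num [twist]

theorem conj_hom (μ : ↥(R : Subgroup G) →* ℂˣ) (hR : Nat.card (R : Subgroup G) = 9)
    (r : (R : Subgroup G)) : conj (μ r : ℂ) = ((μ r⁻¹ : ℂˣ) : ℂ) := by
  have h : ((μ r : ℂˣ) : ℂ) ^ 9 = 1 := by
    rw [← Units.val_pow_eq_pow_val, ← map_pow, ← hR, pow_card_eq_one', map_one, Units.val_one]
  rw [map_inv, Units.val_inv_eq_inv_val, ← Complex.inv_eq_conj]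
  exact Complex.norm_eq_one_of_pow_eq_one h (by norm_num)

theorem inv_hom_inv {S : Type*} [Group S] (μ : S →* ℂˣ) : μ⁻¹⁻¹ = μ :=
  MonoidHom.ext fun r => by rw [MonoidHom.inv_apply, MonoidHom.inv_apply, inv_inv]

theorem mul_hom_eq_one {S : Type*} [Group S] (μ ν : S →* ℂˣ) : μ * ν = 1 ↔ μ = ν⁻¹ := by
  constructor
  · refine fun h => MonoidHom.ext fun r => ?_
    have := DFunLike.congr_fun h r
    rw [MonoidHom.mul_apply, MonoidHom.one_apply] at this
    rw [MonoidHom.inv_apply]
    exact eq_inv_of_mul_eq_one_left this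
  · rintro rfl
    exact MonoidHom.ext fun r => by rw [MonoidHom.mul_apply, MonoidHom.inv_apply, inv_mul_cancel,
      MonoidHom.one_apply]

theorem inv_hom_eq_one {S : Type*} [Group S] (μ : S →* ℂˣ) : μ⁻¹ = 1 ↔ μ = 1 := by
  constructor
  · intro h
    rw [← inv_hom_inv μ, h]
    exact MonoidHom.ext fun r => by rw [MonoidHom.inv_apply, MonoidHom.one_apply, inv_one]
  · rintro rfl
    exact MonoidHom.ext fun r => by rw [MonoidHom.inv_apply, MonoidHom.one_apply, inv_one]

theorem inv_hom_mul_eq_one {S : Type*} [Group S] (μ ν : S →* ℂˣ) :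
    (μ⁻¹ * ν = 1 ↔ μ = ν) ∧ (μ⁻¹ * ν⁻¹ = 1 ↔ μ = ν⁻¹) := by
  rw [mul_hom_eq_one, mul_hom_eq_one, inv_hom_inv]
  exact ⟨⟨fun h => by rw [← inv_hom_inv μ, h, inv_hom_inv], fun h => by rw [h]⟩,
    ⟨fun h => by rw [← inv_hom_inv μ, h], fun h => by rw [h, inv_hom_inv]⟩⟩

theorem sum_twist (hR : Nat.card (R : Subgroup G) = 9) [Fintype (R : Subgroup G)]
    {μ : ↥(R : Subgroup G) →* ℂˣ} (hμ : μ ≠ 1) : ∑ r, twist μ r = 18 := by
  classical
  have e : ∀ r, twist μ r = 2 - (μ r : ℂ) - ((μ⁻¹ r : ℂˣ) : ℂ) := fun r => by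
    rw [twist, MonoidHom.inv_apply, map_inv]
  simp only [e, Finset.sum_sub_distrib, sum_hom hR, if_neg hμ, inv_hom_eq_one, Finset.sum_const,
    Finset.card_univ, ← Nat.card_eq_fintype_card, hR]
  norm_num

theorem sum_twist_mul (hR : Nat.card (R : Subgroup G) = 9) [Fintype (R : Subgroup G)]
    {μ ν : ↥(R : Subgroup G) →* ℂˣ} (hμ : μ ≠ 1) (hν : ν ≠ 1)
    [Decidable (μ = ν)] [Decidable (μ = ν⁻¹)] :
    ∑ r, twist μ r * conj (twist ν r) =
      36 + (if μ = ν then 18 else 0) + if μ = ν⁻¹ then 18 else 0 := by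
  classical
  have e : ∀ r, twist μ r * conj (twist ν r) = 4 - 2 * (μ r : ℂ) - 2 * ((μ⁻¹ r : ℂˣ) : ℂ) -
      2 * (ν r : ℂ) - 2 * ((ν⁻¹ r : ℂˣ) : ℂ) + ((μ * ν) r : ℂˣ) + ((μ * ν⁻¹) r : ℂˣ) +
      ((μ⁻¹ * ν) r : ℂˣ) + ((μ⁻¹ * ν⁻¹) r : ℂˣ) := fun r => by
    rw [twist, twist, map_sub, map_sub, map_ofNat, conj_hom ν hR, conj_hom ν hR, inv_inv]
    simp only [MonoidHom.mul_apply, MonoidHom.inv_apply, map_inv, Units.val_mul]
    ring
  simp only [e, Finset.sum_add_distrib, Finset.sum_sub_distrib, ← Finset.mul_sum, sum_hom hR,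
    if_neg hμ, if_neg hν, inv_hom_eq_one, Finset.sum_const, Finset.card_univ,
    ← Nat.card_eq_fintype_card, hR, (inv_hom_mul_eq_one μ ν).1, (inv_hom_mul_eq_one μ ν).2,
    mul_hom_eq_one, inv_hom_inv]
  split_ifs <;> norm_num

theorem exists_homs (hR : Nat.card (R : Subgroup G) = 9) :
    ∃ μ : Fin 4 → (↥(R : Subgroup G) →* ℂˣ), μ 0 ^ 3 = 1 ∧ (∀ k, μ k ≠ 1) ∧
      ∀ k l, k ≠ l → μ k ≠ μ l ∧ μ k ≠ (μ l)⁻¹ := by
  classical
  have : IsMulCommutative (R : Subgroup G) :=
    IsPGroup.isMulCommutative_of_card_eq_prime_sq (p := 3) (by rw [hR]; norm_num)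
  have hX : Nat.card (↥(R : Subgroup G) →* ℂˣ) = 9 := by
    rw [CommGroup.card_monoidHom_of_hasEnoughRootsOfUnity, hR]
  have : Finite (↥(R : Subgroup G) →* ℂˣ) := Nat.finite_of_card_ne_zero (by rw [hX]; norm_num)
  have := Fintype.ofFinite (↥(R : Subgroup G) →* ℂˣ)
  obtain ⟨m0, hm0⟩ := exists_prime_orderOf_dvd_card' (G := ↥(R : Subgroup G) →* ℂˣ) 3
    (by rw [hX]; norm_num)
  have pick : ∀ s : Finset (↥(R : Subgroup G) →* ℂˣ), s.card < 9 → ∃ m, m ∉ s := fun s hs => by
    by_contra! h
    have : s = Finset.univ := Finset.eq_univ_iff_forall.2 h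
    rw [this, Finset.card_univ, ← Nat.card_eq_fintype_card, hX] at hs
    exact lt_irrefl 9 hs
  obtain ⟨m1, h1⟩ := pick {1, m0, m0⁻¹} (Finset.card_le_three.trans_lt (by norm_num))
  obtain ⟨m2, h2⟩ := pick {1, m0, m0⁻¹, m1, m1⁻¹} (Finset.card_le_five.trans_lt (by norm_num))
  obtain ⟨m3, h3⟩ := pick {1, m0, m0⁻¹, m1, m1⁻¹, m2, m2⁻¹} (by
    refine lt_of_le_of_lt (Finset.card_insert_le _ _) ?_
    refine Nat.lt_of_le_of_lt (Nat.succ_le_succ (Finset.card_insert_le _ _)) ?_
    exact Nat.lt_of_le_of_lt (Nat.succ_le_succ (Nat.succ_le_succ Finset.card_le_five)) (by norm_num))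
  simp only [Finset.mem_insert, Finset.mem_singleton, not_or] at h1 h2 h3
  have hm1 : m0 ≠ 1 := fun e => by rw [e, orderOf_one] at hm0; norm_num at hm0
  refine ⟨![m0, m1, m2, m3], by
    rw [Matrix.cons_val_zero]
    exact orderOf_dvd_iff_pow_eq_one.1 hm0.dvd, fun k => ?_,
    fun k l hkl => ?_⟩
  · fin_cases k
    exacts [hm1, h1.1, h2.1, h3.1]
  · have key : ∀ {p q : ↥(R : Subgroup G) →* ℂˣ}, p ≠ q → p ≠ q⁻¹ →
        (p ≠ q ∧ p ≠ q⁻¹) ∧ (q ≠ p ∧ q ≠ p⁻¹) := fun h h' =>
      ⟨⟨h, h'⟩, h.symm, fun e => h' (by rw [e, inv_hom_inv])⟩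
    fin_cases k <;> fin_cases l
    exacts [absurd rfl hkl, (key h1.2.1 h1.2.2).2, (key h2.2.1 h2.2.2.1).2, (key h3.2.1 h3.2.2.1).2,
      (key h1.2.1 h1.2.2).1, absurd rfl hkl, (key h2.2.2.2.1 h2.2.2.2.2).2,
      (key h3.2.2.2.1 h3.2.2.2.2.1).2,
      (key h2.2.1 h2.2.2.1).1, (key h2.2.2.2.1 h2.2.2.2.2).1, absurd rfl hkl,
      (key h3.2.2.2.2.2.1 h3.2.2.2.2.2.2).2,
      (key h3.2.1 h3.2.2.1).1, (key h3.2.2.2.1 h3.2.2.2.2.1).1,
      (key h3.2.2.2.2.2.1 h3.2.2.2.2.2.2).1, absurd rfl hkl]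

theorem degreePair_of_inverted [IsSimpleGroup G] (hG : ¬ IsMulCommutative G) {M : ℕ}
    (R : Sylow 3 G) (hR : Nat.card (R : Subgroup G) = 9) (hcard : Nat.card G = 9 * M)
    (hM : ¬ 3 ∣ M) (hI : Inverted R) : HasDegreePair G := by
  classical
  have := Fintype.ofFinite G
  have := Fintype.ofFinite (IrrCharacter G)
  have := Fintype.ofFinite (R : Subgroup G)
  obtain ⟨k, hk1, hk0⟩ := exists_exponent hM
  obtain ⟨μ, hμ3, hμ1, hμ⟩ := exists_homs hR
  have hw : ∀ f : ↥(R : Subgroup G) → ℂ, f 1 = 0 →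
      ∑ r : (R : Subgroup G), f r * omega (R : Subgroup G) r = 1 / 18 * ∑ r, f r := by
    intro f hf
    rw [Finset.mul_sum]
    refine Finset.sum_congr rfl fun r _ => ?_
    by_cases h : r = 1
    · rw [h, hf, zero_mul, mul_zero]
    · rw [omega_of_inverted R hR hI r.2 fun e => h (Subtype.ext e), mul_comm]
  set T : ↥(R : Subgroup G) → ℂ := fun r => if r = 1 then 0 else 9 with hTdef
  have hTgood : Good R T := by
    refine ⟨fun r s h => ?_, ?_, by simp [hTdef]⟩
    · have : r = 1 ↔ s = 1 := by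
        rw [← Subtype.coe_inj, ← Subtype.coe_inj, OneMemClass.coe_one]
        exact ⟨fun e => by rw [e] at h; exact isConj_one_right.1 h,
          fun e => by rw [e] at h; exact isConj_one_left.1 h⟩
      simp only [hTdef, this]
    · refine Char.isGeneralizedCharacter_iff_classInner.2 ⟨fun r s => ?_, fun χ => ?_⟩
      · simp only [hTdef, conj_eq_one_iff]
      · obtain ⟨m, hm⟩ := Char.IsGeneralizedCharacter.classInner_int
          (Char.isGeneralizedCharacter_of_isCharacter (Char.isCharacter_one (G := (R : Subgroup G))))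
          (Char.isGeneralizedCharacter_of_isCharacter (Char.IsIrrCharacter.isCharacter χ.2))
        obtain ⟨d, hd⟩ := Char.IsIrrCharacter.exists_degree χ.2
        refine ⟨9 * m - d, ?_⟩
        push_cast
        rw [← hm, classInner, classInner, hR]
        have e : ∀ r : (R : Subgroup G), T r * conj ((χ : ↥(R : Subgroup G) → ℂ) r) =
            9 * conj ((χ : ↥(R : Subgroup G) → ℂ) r) - if r = 1 then 9 * (d : ℂ) else 0 := fun r => by
          simp only [hTdef]
          split_ifs with h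
          · rw [h, hd.2, map_natCast]; ring
          · ring
        rw [Finset.sum_congr rfl fun r _ => e r, Finset.sum_sub_distrib, ← Finset.mul_sum,
          Finset.sum_ite_eq' Finset.univ (1 : (R : Subgroup G)), if_pos (Finset.mem_univ _)]
        simp only [Pi.one_apply, one_mul]
        push_cast
        ring
  have hv := fun i => good_twist hR hI (μ i)
  have hI' : ∀ i l, ∑ r, twist (μ i) r * conj (twist (μ l) r) * omega (R : Subgroup G) r =
      ((if i = l then 3 else 2 : ℝ) : ℂ) := by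
    intro i l
    rw [hw (fun r => twist (μ i) r * conj (twist (μ l) r)) (by simp [(hv i).zero]),
      sum_twist_mul hR (hμ1 i) (hμ1 l)]
    by_cases h : i = l
    · subst h
      rw [if_pos rfl, if_neg (fun e => ?_), if_pos rfl]
      · norm_num
      · exact hμ1 i (by
          refine MonoidHom.ext fun r => ?_
          have h2 : μ i r * μ i r = 1 := by
            nth_rewrite 1 [e]
            rw [MonoidHom.inv_apply, inv_mul_cancel]
          have h9 : μ i r ^ 9 = 1 := by rw [← map_pow, ← hR, pow_card_eq_one', map_one]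
          calc μ i r = μ i r * ((μ i r * μ i r) ^ 4) := by rw [h2, one_pow, mul_one]
            _ = μ i r ^ 9 := by rw [← pow_two, ← pow_mul, ← pow_succ']
            _ = 1 := h9)
    · rw [if_neg (hμ i l h).1, if_neg (hμ i l h).2, if_neg h]
      norm_num
  have hx : ∀ i, ∑ r, twist (μ i) r * omega (R : Subgroup G) r = ((1 : ℝ) : ℂ) := fun i => by
    rw [hw _ (hv i).zero, sum_twist hR (hμ1 i)]
    norm_num
  have hTv : ∀ i, ∑ r, T r * conj (twist (μ i) r) * omega (R : Subgroup G) r = ((9 : ℝ) : ℂ) := by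
    intro i
    rw [hw (fun r => T r * conj (twist (μ i) r)) (by simp [hTdef])]
    have : ∀ r, T r * conj (twist (μ i) r) = 9 * conj (twist (μ i) r) := fun r => by
      simp only [hTdef]
      split_ifs with h
      · rw [h, (hv i).zero, map_zero, zero_mul, mul_zero]
      · rfl
    rw [Finset.sum_congr rfl fun r _ => this r, ← Finset.mul_sum, ← map_sum, sum_twist hR (hμ1 i),
      map_ofNat]
    norm_num
  have hT1 : ∑ r, T r * omega (R : Subgroup G) r = ((4 : ℝ) : ℂ) := by
    rw [hw _ hTgood.zero, hTdef, Finset.sum_ite, Finset.sum_const_zero, zero_add, Finset.sum_const,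
      Finset.filter_ne', Finset.card_erase_of_mem (Finset.mem_univ _), Finset.card_univ,
      ← Nat.card_eq_fintype_card, hR]
    norm_num
  have hTT : ∑ r, T r * conj (T r) * omega (R : Subgroup G) r = ((36 : ℝ) : ℂ) := by
    rw [Finset.sum_congr rfl (g := fun r => 9 * (T r * omega (R : Subgroup G) r)) fun r _ => by
      simp only [hTdef]
      split_ifs
      · rw [map_zero]; ring
      · rw [map_ofNat]; ring, ← Finset.mul_sum, hT1]
    norm_num
  set A := fun i => shifted R k (twist (μ i))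
  have gA := fun i => shifted_gen R hcard hM hk0 hk1 (hv i)
  have gT := shifted_gen R hcard hM hk0 hk1 hTgood
  have cA : ∀ i l, ∑ χ, coef (A i) χ * coef (A l) χ = if i = l then 2 else 1 := by
    intro i l
    have h := shifted_inner R hR hcard hk0 hk1 (hv i) (hv l) (hI' i l) (hx i) (hx l)
    rw [classInner_eq_coef (gA i) (gA l)] at h
    have h' : ((∑ χ, coef (A i) χ * coef (A l) χ : ℤ) : ℝ) =
        (if i = l then 3 else 2 : ℝ) - 1 - 1 + 1 := Complex.ofReal_injective (by
      rw [← h]; norm_cast)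
    split_ifs at h' ⊢ <;> norm_num at h' <;> exact_mod_cast h'
  have cTA : ∀ i, ∑ χ, coef (shifted R k T) χ * coef (A i) χ = 5 := by
    intro i
    have h := shifted_inner R hR hcard hk0 hk1 hTgood (hv i) (hTv i) hT1 (hx i)
    rw [classInner_eq_coef gT (gA i)] at h
    have h' : ((∑ χ, coef (shifted R k T) χ * coef (A i) χ : ℤ) : ℝ) = 9 - 4 - 1 + 1 :=
      Complex.ofReal_injective (by rw [← h]; norm_cast)
    norm_num at h'
    exact_mod_cast h'
  have cT : ∑ χ, coef (shifted R k T) χ * coef (shifted R k T) χ = 29 := by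
    have h := shifted_inner R hR hcard hk0 hk1 hTgood hTgood hTT hT1 hT1
    rw [classInner_eq_coef gT gT] at h
    have h' : ((∑ χ, coef (shifted R k T) χ * coef (shifted R k T) χ : ℤ) : ℝ) = 36 - 4 - 4 + 1 :=
      Complex.ofReal_injective (by rw [← h]; norm_cast)
    norm_num at h'
    exact_mod_cast h'
  obtain ⟨i, j, hp, hi, hj⟩ := good_of_star (fun l => coef (A l))
    (fun l => by simp only [pow_two]; exact (cA l l).trans (if_pos rfl))
    (fun l m h => (cA l m).trans (if_neg h))
  -- away from the principal character `T - 1` is the sum of the four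
  have hsum : ∀ χ : IrrCharacter G, (χ : G → ℂ) ≠ 1 →
      coef (shifted R k T) χ = ∑ l, coef (A l) χ := by
    have hA0 : ∀ l, ∀ χ : IrrCharacter G, (χ : G → ℂ) = 1 → coef (A l) χ = 0 := fun l χ hχ => by
      have h := classInner_irr_eq_coef (gA l) χ
      rw [hχ, shifted, Char.classInner_sub_left,
        sect_one_inner R hR hcard hk0 hk1 (hv l).stable, hx l,
        Char.classInner_irr_self Char.isIrrCharacter_one] at h
      simp only [Complex.ofReal_one, sub_self] at h
      exact_mod_cast h.symm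
    set one : IrrCharacter G := ⟨1, Char.isIrrCharacter_one⟩ with hone
    have hT0 : coef (shifted R k T) one = 3 := by
      have h := classInner_irr_eq_coef gT one
      rw [hone, shifted, Char.classInner_sub_left,
        sect_one_inner R hR hcard hk0 hk1 hTgood.stable, hT1,
        Char.classInner_irr_self Char.isIrrCharacter_one] at h
      norm_num at h
      exact_mod_cast h.symm
    set D : IrrCharacter G → ℤ := fun χ => coef (shifted R k T) χ - ∑ l, coef (A l) χ
    have hD : ∑ χ, D χ ^ 2 = 9 := by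
      have e : ∀ χ, D χ ^ 2 = coef (shifted R k T) χ * coef (shifted R k T) χ -
          2 * ∑ l, coef (shifted R k T) χ * coef (A l) χ +
          ∑ l, ∑ m, coef (A l) χ * coef (A m) χ := fun χ => by
        simp only [D, ← Finset.mul_sum, ← Finset.sum_mul]; ring
      rw [Finset.sum_congr rfl fun χ _ => e χ, Finset.sum_add_distrib, Finset.sum_sub_distrib, cT,
        ← Finset.mul_sum, Finset.sum_comm,
        Finset.sum_congr rfl fun l _ => cTA l, Finset.sum_comm,
        Finset.sum_congr rfl fun l _ => Finset.sum_comm.trans (Finset.sum_congr rfl fun m _ => cA l m)]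
      simp [Fin.sum_univ_four]
    intro χ hχ
    have hD1 : D one = 3 := by simp [D, hT0, hA0 _ one rfl]
    have h2 : D one ^ 2 + D χ ^ 2 ≤ 9 := by
      rw [← hD, ← Finset.sum_pair (f := fun x => D x ^ 2) (a := one) (b := χ)
        (fun e => hχ (by rw [← e]))]
      exact Finset.sum_le_sum_of_subset_of_nonneg (Finset.subset_univ _) fun _ _ _ => sq_nonneg _
    rw [hD1] at h2
    have : D χ = 0 := pow_eq_zero_iff two_ne_zero |>.1 (le_antisymm (by linarith) (sq_nonneg _))
    simp only [D] at this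
    omega
  have hne : ∀ χ, coef (A 0) χ ≠ 0 → (χ : G → ℂ) ≠ 1 := fun χ hc e => hc (by
    have h := classInner_irr_eq_coef (gA 0) χ
    rw [e, shifted, Char.classInner_sub_left, sect_one_inner R hR hcard hk0 hk1 (hv 0).stable, hx 0,
      Char.classInner_irr_self Char.isIrrCharacter_one] at h
    simp only [Complex.ofReal_one, sub_self] at h
    exact_mod_cast h.symm)
  refine finish R hR hcard hM hk0 hk1 hG (hv 0) hTgood (by simpa using hx 0) (fun n hn r => ?_)
    (fun r => ?_) hp
    (by rwa [hsum i (hne i (by rcases hp.hi with h | h <;> omega))])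
    (by rwa [hsum j (hne j (by rcases hp.hj with h | h <;> omega))])
  · have h3 : μ 0 r ^ 3 = 1 := by
      rw [← MonoidHom.pow_apply, hμ3, MonoidHom.one_apply]
    have hnn : n % 3 = 1 ∨ n % 3 = 2 := by
      have : ¬ 3 ∣ n := fun h => by
        have := Nat.dvd_gcd h (dvd_refl 3); rw [hn.gcd_eq_one] at this; norm_num at this
      omega
    simp only [twist, map_inv, map_pow, pow_eq_pow_mod n h3]
    rcases hnn with e | e <;> rw [e]
    · rw [pow_one]
    · have e2 : μ 0 r ^ 2 = (μ 0 r)⁻¹ :=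
        eq_inv_of_mul_eq_one_left (by rw [← pow_succ]; exact h3)
      rw [e2, inv_inv]; ring
  · simp only [hTdef]; split_ifs <;> simp

end inverted

end Cfsg.Agent.SmallOrders.NineTwoPrimes
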