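-- The Klein case: neighbouring rational degrees prime to 3.
--
-- * `degreePair_of_klein`: `N(R)` acts on `R = ⟨a⟩ × ⟨b⟩` with all four sign patterns
import Cfsg.Agent.Lib.SmallOrders.NineTwoPrimes.Cases

set_option autoImplicit false
set_option linter.unusedSectionVars false

namespace Cfsg.Agent.SmallOrders.NineTwoPrimes

open Cfsg Subgroup
open scoped ComplexConjugate

variable {G : Type*} [Group G] [Finite G] [Fact (Nat.Prime 3)] {R : Sylow 3 G} {a b : G}

open Classical in
/-- `3` outside `⟨b⟩` -/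
noncomputable def offLine (R : Sylow 3 G) (b : G) (r : (R : Subgroup G)) : ℂ :=
  if (r : G) ∈ zpowers b then 0 else 3

theorem Klein.mem_line_iff (K : Klein R a b) (i j : Fin 3) :
    a ^ (i : ℕ) * b ^ (j : ℕ) ∈ zpowers b ↔ i = 0 := by
  constructor
  · intro h
    obtain ⟨n, hn⟩ := Subgroup.mem_zpowers_iff.1 h
    have h3 : b ^ n = b ^ (n % 3).toNat := by
      rw [← zpow_natCast, Int.toNat_of_nonneg (Int.emod_nonneg _ (by norm_num))]
      exact zpow_eq_zpow_emod' n K.cube_b
    have hlt : (n % 3).toNat < 3 := by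
      have := Int.emod_lt_of_pos n (b := 3) (by norm_num)
      omega
    exact (K.eq_iff (i' := 0) (j' := ⟨_, hlt⟩) (by
      rw [← hn, h3]; simp)).1
  · rintro rfl
    simpa using pow_mem (mem_zpowers b) _

theorem good_offLine (K : Klein R a b) (hR : Nat.card (R : Subgroup G) = 9) :
    Good R (offLine R b) where
  stable r s h := by
    obtain ⟨i, j, hr⟩ := K.exists_eq r.2
    obtain ⟨i', j', hs⟩ := K.exists_eq s.2
    rw [hr, hs] at h
    have hi := (K.conj_cases hR h).1
    simp only [offLine, hr, hs, K.mem_line_iff]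
    rcases hi with rfl | rfl
    · rfl
    · simp only [neg_eq_zero]
  zero := by simp [offLine]
  gen := by
    classical
    have := Fintype.ofFinite (R : Subgroup G)
    set B := (zpowers b).subgroupOf (R : Subgroup G) with hB
    have hcB : Nat.card B = 3 := by
      rw [hB, Nat.card_congr (subgroupOfEquivOfLe (zpowers_le.2 K.mem_b)).toEquiv, Nat.card_zpowers]
      refine orderOf_eq_prime K.cube_b fun e => ?_
      have := (K.eq_iff (i := 0) (j := 1) (i' := 0) (j' := 0) (by simp [e])).2
      exact absurd this (by decide)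
    have hind := Char.IsGeneralizedCharacter.indFun (H := B)
      (Char.isGeneralizedCharacter_of_isCharacter (Char.isCharacter_one (G := B)))
    have e : indFun B (1 : B → ℂ) = fun r => if r ∈ B then (3 : ℂ) else 0 := by
      funext r
      have hx : ∀ x : (R : Subgroup G), x⁻¹ * r * x = r := fun x =>
        Subtype.ext (by
          simp only [Subgroup.coe_mul, Subgroup.coe_inv]
          rw [mul_assoc, comm_of_nine R hR r r.2 x x.2, inv_mul_cancel_left])
      simp only [indFun, hx, Finset.sum_const, Finset.card_univ, ← Nat.card_eq_fintype_card, hR,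
        hcB, extendByZero, nsmul_eq_mul]
      split_ifs with h
      · rw [show r = ((⟨r, h⟩ : B) : (R : Subgroup G)) from rfl,
          Subtype.val_injective.extend_apply]
        norm_num
      · rw [Function.extend_apply' _ _ _ fun ⟨y, hy⟩ => h (hy ▸ y.2)]
        simp
    rw [e] at hind
    have h := Char.IsGeneralizedCharacter.sub
      (Char.IsGeneralizedCharacter.intCast_smul
        (Char.isGeneralizedCharacter_of_isCharacter (Char.isCharacter_one (G := (R : Subgroup G)))) 3)
      hind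
    convert h using 1
    funext r
    simp only [offLine, hB, mem_subgroupOf, Pi.sub_apply, Pi.smul_apply, Pi.one_apply]
    split_ifs <;> simp

/-- a sum over `R` in coordinates -/
theorem Klein.sum_eq (K : Klein R a b) [Fintype (R : Subgroup G)]
    (f : ↥(R : Subgroup G) → ℂ) (g : Fin 3 → Fin 3 → ℂ)
    (h : ∀ (i j : Fin 3) (r : (R : Subgroup G)), (r : G) = a ^ (i : ℕ) * b ^ (j : ℕ) → f r = g i j) :
    ∑ r, f r = g 0 0 + g 0 1 + g 0 2 + (g 1 0 + g 1 1 + g 1 2) + (g 2 0 + g 2 1 + g 2 2) := by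
  rw [← K.coord.sum_comp, Fintype.sum_prod_type]
  simp only [Fin.sum_univ_three]
  simp only [fun (i j : Fin 3) (hm : a ^ (i : ℕ) * b ^ (j : ℕ) ∈ (R : Subgroup G)) =>
    h i j ⟨a ^ (i : ℕ) * b ^ (j : ℕ), hm⟩ rfl]

theorem degreePair_of_klein [IsSimpleGroup G] (hG : ¬ IsMulCommutative G) {M : ℕ}
    (hR : Nat.card (R : Subgroup G) = 9) (hcard : Nat.card G = 9 * M)
    (hM : ¬ 3 ∣ M) (K : Klein R a b) : HasDegreePair G := by
  classical
  have := Fintype.ofFinite G
  have := Fintype.ofFinite (IrrCharacter G)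
  have := Fintype.ofFinite (R : Subgroup G)
  obtain ⟨k, hk1, hk0⟩ := exists_exponent hM
  have hva := good_offLine K hR
  have hvb := good_offLine (K.swap hR) hR
  set va := offLine R b with hvadef
  set vb := offLine R a with hvbdef
  have hT := hva.mul hvb
  -- values and weights in coordinates
  have va_eq : ∀ (i j : Fin 3) (r : (R : Subgroup G)), (r : G) = a ^ (i : ℕ) * b ^ (j : ℕ) →
      va r = if i = 0 then 0 else 3 := fun i j r hr => by
    simp only [hvadef, offLine, hr, K.mem_line_iff]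
  have vb_eq : ∀ (i j : Fin 3) (r : (R : Subgroup G)), (r : G) = a ^ (i : ℕ) * b ^ (j : ℕ) →
      vb r = if j = 0 then 0 else 3 := fun i j r hr => by
    rw [comm_of_nine R hR _ (pow_mem K.mem_a _) _ (pow_mem K.mem_b _)] at hr
    simp only [hvbdef, offLine, hr, (K.swap hR).mem_line_iff]
  have om : ∀ (i j : Fin 3) (r : (R : Subgroup G)), (r : G) = a ^ (i : ℕ) * b ^ (j : ℕ) →
      (i ≠ 0 ∨ j ≠ 0) → omega (R : Subgroup G) r = if i = 0 ∨ j = 0 then 1 / 9 else 1 / 36 :=
    fun i j r hr hij => by rw [hr]; exact K.omega_eq hR i j hij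
  have calc1 : ∀ (F : ℂ → ℂ → ℂ), F 0 0 = 0 →
      ∑ r : (R : Subgroup G), F (va r) (vb r) * omega (R : Subgroup G) r =
        2 / 9 * F 3 0 + 2 / 9 * F 0 3 + 1 / 9 * F 3 3 := by
    intro F hF
    rw [K.sum_eq _ (fun i j => F (if i = 0 then 0 else 3) (if j = 0 then 0 else 3) *
      (if i = 0 ∨ j = 0 then 1 / 9 else 1 / 36)) fun i j r hr => by
        rw [va_eq i j r hr, vb_eq i j r hr]
        by_cases h : i ≠ 0 ∨ j ≠ 0
        · rw [om i j r hr h]
        · rw [not_or, not_not, not_not] at h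
          rw [if_pos h.1, if_pos h.2, hF, zero_mul, zero_mul]]
    simp only [Fin.reduceEq, or_self, or_true, true_or, if_true, if_false, hF]
    ring
  have conj3 : conj (3 : ℂ) = 3 := map_ofNat _ _
  have conj9 : conj (3 * 3 : ℂ) = 3 * 3 := by rw [map_mul, conj3]
  have xa : ∑ r, va r * omega (R : Subgroup G) r = ((1 : ℝ) : ℂ) := by
    rw [calc1 (fun x _ => x) rfl]; norm_num
  have xb : ∑ r, vb r * omega (R : Subgroup G) r = ((1 : ℝ) : ℂ) := by
    rw [calc1 (fun _ y => y) rfl]; norm_num
  have xT : ∑ r, (va * vb) r * omega (R : Subgroup G) r = ((1 : ℝ) : ℂ) := by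
    refine (calc1 (fun x y => x * y) (mul_zero 0)).trans ?_; norm_num
  have Iaa : ∑ r, va r * conj (va r) * omega (R : Subgroup G) r = ((3 : ℝ) : ℂ) := by
    rw [calc1 (fun x _ => x * conj x) (by simp)]; rw [conj3, map_zero]; norm_num
  have Ibb : ∑ r, vb r * conj (vb r) * omega (R : Subgroup G) r = ((3 : ℝ) : ℂ) := by
    rw [calc1 (fun _ y => y * conj y) (by simp)]; rw [conj3, map_zero]; norm_num
  have Iab : ∑ r, va r * conj (vb r) * omega (R : Subgroup G) r = ((1 : ℝ) : ℂ) := by
    rw [calc1 (fun x y => x * conj y) (by simp)]; rw [conj3, map_zero]; norm_num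
  have IaT : ∑ r, va r * conj ((va * vb) r) * omega (R : Subgroup G) r = ((3 : ℝ) : ℂ) := by
    refine (calc1 (fun x y => x * conj (x * y)) (by simp)).trans ?_
    simp only [conj9, mul_zero, zero_mul, map_zero]; norm_num
  have IbT : ∑ r, vb r * conj ((va * vb) r) * omega (R : Subgroup G) r = ((3 : ℝ) : ℂ) := by
    refine (calc1 (fun x y => y * conj (x * y)) (by simp)).trans ?_
    simp only [conj9, mul_zero, zero_mul, map_zero]; norm_num
  have ITT : ∑ r, (va * vb) r * conj ((va * vb) r) * omega (R : Subgroup G) r = ((9 : ℝ) : ℂ) := by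
    refine (calc1 (fun x y => x * y * conj (x * y)) (by simp)).trans ?_
    simp only [conj9, mul_zero, zero_mul, map_zero]; norm_num
  have key : ∀ {v w : ↥(R : Subgroup G) → ℂ} (_ : Good R v) (_ : Good R w) {I : ℝ} {c : ℤ},
      ∑ r, v r * conj (w r) * omega (R : Subgroup G) r = (I : ℂ) →
      ∑ r, v r * omega (R : Subgroup G) r = ((1 : ℝ) : ℂ) →
      ∑ r, w r * omega (R : Subgroup G) r = ((1 : ℝ) : ℂ) → (c : ℝ) = I - 1 →
      ∑ χ, coef (shifted R k v) χ * coef (shifted R k w) χ = c := by
    intro v w hv hw I c hI h1 h2 hc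
    have h := shifted_inner R hR hcard hk0 hk1 hv hw hI h1 h2
    rw [classInner_eq_coef (shifted_gen R hcard hM hk0 hk1 hv)
      (shifted_gen R hcard hM hk0 hk1 hw)] at h
    have h' : ((∑ χ, coef (shifted R k v) χ * coef (shifted R k w) χ : ℤ) : ℝ) = I - 1 - 1 + 1 :=
      Complex.ofReal_injective (by rw [← h]; norm_cast)
    rw [sub_add_cancel, ← hc] at h'
    exact_mod_cast h'
  have hdeg : ∀ {v : ↥(R : Subgroup G) → ℂ}, Good R v →
      ∑ χ, coef (shifted R k v) χ * degZ χ = -1 := fun {v} hv => by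
    have h := apply_one_eq_coef (shifted_gen R hcard hM hk0 hk1 hv)
    rw [shifted_apply_one R hv] at h
    exact_mod_cast h.symm
  have hone : ∀ {v : ↥(R : Subgroup G) → ℂ}, Good R v →
      ∑ r, v r * omega (R : Subgroup G) r = ((1 : ℝ) : ℂ) →
      ∑ r, v r * omega (R : Subgroup G) r = 1 := fun _ h => h.trans Complex.ofReal_one
  have hpow : ∀ {x : G}, x ∈ (R : Subgroup G) → ∀ n : ℕ, n.Coprime 3 →
      ∀ r : (R : Subgroup G), offLine R x (r ^ n) = offLine R x r := by
    intro x hx n hn r
    have hr : ((r : G) ^ n) ∈ zpowers x ↔ (r : G) ∈ zpowers x := by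
      refine ⟨fun h => ?_, fun h => pow_mem h n⟩
      obtain ⟨m, hm⟩ := exists_pow_eq_self_of_coprime (x := (r : G)) (n := n)
        ((Nat.Coprime.pow_right 2 hn).coprime_dvd_right
          (orderOf_dvd_of_pow_eq_one (by simpa using pow_nine_of_mem hR r.2)))
      rw [← hm]
      exact pow_mem h m
    simp only [offLine, Subgroup.coe_pow, hr]
  have hT9 : ∀ r, (va * vb) r = 0 ∨ (va * vb) r = 9 := fun r => by
    simp only [Pi.mul_apply, hvadef, hvbdef, offLine]
    split_ifs <;> norm_num
  rcases good_of_cross (a := coef (shifted R k va)) (b := coef (shifted R k vb))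
      (c := coef (shifted R k (va * vb))) (D := degZ)
      (by simp only [pow_two]; exact key hva hva Iaa xa xa (by norm_num))
      (by simp only [pow_two]; exact key hvb hvb Ibb xb xb (by norm_num))
      (by simp only [pow_two]; exact key hT hT ITT xT xT (by norm_num))
      (key hva hvb Iab xa xb (by norm_num)) (key hva hT IaT xa xT (by norm_num))
      (key hvb hT IbT xb xT (by norm_num)) (hdeg hva) (hdeg hvb) (hdeg hT) degZ_pos with
    ⟨i, j, hp, hi, hj⟩ | ⟨i, j, hp, hi, hj⟩
  · exact finish R hR hcard hM hk0 hk1 hG hva hT (hone hva xa) (hpow K.mem_b) hT9 hp hi hj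
  · exact finish R hR hcard hM hk0 hk1 hG hvb hT (hone hvb xb) (hpow K.mem_a) hT9 hp hi hj

end Cfsg.Agent.SmallOrders.NineTwoPrimes
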