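-- At most two classes of non-trivial 3-elements in `A₆`.
--
-- * `two_classes`
import Cfsg.Agent.EqLemmas
import Mathlib.GroupTheory.SpecificGroups.Alternating

set_option autoImplicit false

namespace Cfsg.Agent.SmallOrders.NineTwoPrimes

open Equiv

/-- a 3-cycle and a product of two -/
def sixRep : List (Perm (Fin 6)) :=
  [swap 0 1 * swap 1 2, swap 0 1 * swap 1 2 * (swap 3 4 * swap 4 5)]

set_option maxRecDepth 20000 in
theorem six_decide : ∀ g : alternatingGroup (Fin 6), g ^ 9 = 1 → g ≠ 1 →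
    ∃ c : alternatingGroup (Fin 6), (c : Perm (Fin 6)) * g * (c : Perm (Fin 6))⁻¹ ∈ sixRep := by
  decide +kernel

theorem two_classes : ∃ p q : alternatingGroup (Fin 6), ∀ g : alternatingGroup (Fin 6),
    g ^ 9 = 1 → g ≠ 1 → IsConj g p ∨ IsConj g q := by
  refine ⟨⟨swap 0 1 * swap 1 2, Equiv.Perm.mem_alternatingGroup.2 (by decide)⟩, ⟨swap 0 1 * swap 1 2 * (swap 3 4 * swap 4 5), Equiv.Perm.mem_alternatingGroup.2 (by decide)⟩,
    fun g h h' => ?_⟩
  obtain ⟨c, hc⟩ := six_decide g h h'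
  simp only [sixRep, List.mem_cons, List.not_mem_nil, or_false] at hc
  rcases hc with hc | hc
  · exact Or.inl (isConj_iff.2 ⟨c, Subtype.ext (by simpa using hc)⟩)
  · exact Or.inr (isConj_iff.2 ⟨c, Subtype.ext (by simpa using hc)⟩)

end Cfsg.Agent.SmallOrders.NineTwoPrimes
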