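-- The order of a simple group `9 * 2^a * q^b` with neighbouring rational degrees prime to 3.
--
-- * `degree_arith`: the two degrees are a power of 2 and the prime `q = 2^n ± 1`
-- * `order_cases`: `|G| = 360`, `|G| = 504` or `G ≅ L₂(17)`
import Cfsg.Agent.Lib.SmallOrders.NineTwoPrimes.Pairs
import Cfsg.Agent.Lib.SmallOrders.Orders.O720
import Cfsg.Agent.Lib.SmallOrders.BlockDegrees.InvolutionFormula
import Cfsg.Agent.Lib.SmallOrders.Count
import Cfsg.Agent.Lib.GLOrder.Basic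
import Cfsg.Agent.Lib.PSL2.Existence
import Cfsg.Agent.S0997
import Cfsg.Agent.S0904
import Cfsg.Agent.S1020

set_option autoImplicit false
set_option linter.unusedSectionVars false

namespace Cfsg.Agent.SmallOrders.NineTwoPrimes

open Cfsg Subgroup

theorem odd_eq_of_mul {i j u v : ℕ} (hu : ¬ 2 ∣ u) (hv : ¬ 2 ∣ v) (h : 2 ^ i * u = 2 ^ j * v) :
    i = j ∧ u = v := by
  have key : ∀ {i j u v : ℕ}, ¬ 2 ∣ u → i ≤ j → 2 ^ i * u = 2 ^ j * v → i = j ∧ u = v := by
    intro i j u v hu hij h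
    obtain ⟨d, rfl⟩ := Nat.exists_eq_add_of_le hij
    rw [pow_add, mul_assoc] at h
    have h' := Nat.eq_of_mul_eq_mul_left (pow_pos two_pos i) h
    rcases Nat.eq_zero_or_pos d with rfl | hd
    · exact ⟨rfl, by simpa using h'⟩
    · exact absurd (h'.symm ▸ (dvd_pow_self 2 hd.ne').mul_right v) hu
  rcases le_total i j with hle | hle
  · exact key hu hle h
  · obtain ⟨e1, e2⟩ := key hv hle h.symm
    exact ⟨e1.symm, e2.symm⟩

theorem geom_odd {x : ℤ} (hx : Odd x) : ∀ j : ℕ,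
    Odd (∑ l ∈ Finset.range j, x ^ l) ↔ Odd j := by
  intro j
  induction j with
  | zero => simp
  | succ j ih =>
    rw [Finset.sum_range_succ, Int.odd_add, ih, Nat.odd_add_one]
    have : Odd (x ^ j) := hx.pow
    simp only [← Int.not_odd_iff_even, this, not_true, iff_false]

/-- neighbours: a prime power next to a power of two -/
theorem exponent_one {q i j : ℕ} (hq : q.Prime) (hq3 : 5 ≤ q) (hj : j ≠ 0)
    (h : q ^ j = 2 ^ i + 1 ∨ q ^ j + 1 = 2 ^ i) : j = 1 := by
  have hqodd : ¬ 2 ∣ q := fun h2 => by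
    have := (Nat.prime_dvd_prime_iff_eq Nat.prime_two hq).1 h2
    omega
  rcases Nat.even_or_odd j with ⟨m, rfl⟩ | hodd
  · exfalso
    set y := q ^ m
    have hy : 5 ≤ y := hq3.trans (Nat.le_self_pow (by omega) q)
    have hyodd : ¬ 2 ∣ y := fun h2 => hqodd (Nat.prime_two.dvd_of_dvd_pow h2)
    rw [pow_add, show q ^ m = y from rfl] at h
    rcases h with h | h
    · have h1 : (y - 1) * (y + 1) = 2 ^ i := by
        rw [mul_comm, ← Nat.sq_sub_sq, one_pow, pow_two, h, Nat.add_sub_cancel]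
      obtain ⟨c, -, hc⟩ := (Nat.dvd_prime_pow Nat.prime_two).1 (Dvd.intro _ h1 : y - 1 ∣ 2 ^ i)
      obtain ⟨d, -, hd⟩ := (Nat.dvd_prime_pow Nat.prime_two).1
        (Dvd.intro_left _ h1 : y + 1 ∣ 2 ^ i)
      have hc2 : 2 ≤ c := by
        by_contra hc2
        interval_cases c <;> omega
      have hcd : c < d := (Nat.pow_lt_pow_iff_right (by norm_num : 1 < 2)).1 (by omega)
      have e4 : 4 ∣ y - 1 := hc ▸ (pow_dvd_pow 2 hc2 : 2 ^ 2 ∣ 2 ^ c)
      have e4' : 4 ∣ y + 1 := hd ▸ (pow_dvd_pow 2 (hc2.trans hcd.le) : 2 ^ 2 ∣ 2 ^ d)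
      omega
    · obtain ⟨c, hc⟩ : ∃ c, y = 2 * c + 1 := ⟨y / 2, by omega⟩
      have hi : 2 ≤ i := by
        by_contra hi
        have := Nat.mul_le_mul hy hy
        interval_cases i <;> simp only [pow_zero, pow_one] at h <;> omega
      have e4 : 4 ∣ y * y + 1 := h ▸ (pow_dvd_pow 2 hi : 2 ^ 2 ∣ 2 ^ i)
      have e2 : y * y + 1 = 4 * (c * c + c) + 2 := by rw [hc]; ring
      omega
  · have key : ∀ x : ℤ, Odd x → x.natAbs = q → (x ^ j - 1).natAbs = 2 ^ i → j = 1 := by
      intro x hx hxq hxj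
      set S := ∑ l ∈ Finset.range j, x ^ l
      have hS : S * (x - 1) = x ^ j - 1 := geom_sum_mul x j
      have hSodd : Odd S.natAbs := Int.natAbs_odd.2 ((geom_odd hx j).2 hodd)
      have hd : S.natAbs ∣ 2 ^ i := ⟨(x - 1).natAbs, by rw [← Int.natAbs_mul, hS, hxj]⟩
      have h1 : S.natAbs = 1 :=
        (Nat.Coprime.pow_right i (Nat.coprime_two_right.2 hSodd)).eq_one_of_dvd hd
      rw [← hS, Int.natAbs_mul, h1, one_mul] at hxj
      by_contra hne
      have hq2 : q ^ 2 ≤ q ^ j :=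
        Nat.pow_le_pow_right hq.pos (by rcases hodd with ⟨m, rfl⟩; omega)
      have : q * 5 ≤ q ^ 2 := by rw [pow_two]; exact Nat.mul_le_mul_left q hq3
      omega
    have hqo : Odd (q : ℤ) := by exact_mod_cast hq.odd_of_ne_two (by omega)
    rcases h with h | h
    · refine key q hqo (Int.natAbs_natCast q) ?_
      rw [← Nat.cast_pow, h]
      push_cast
      rw [add_sub_cancel_right]
      exact_mod_cast Int.natAbs_natCast (2 ^ i)
    · refine key (-q) hqo.neg (by simp) ?_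
      rw [hodd.neg_pow, show -((q : ℤ) ^ j) - 1 = -((q ^ j + 1 : ℕ) : ℤ) by push_cast; ring,
        Int.natAbs_neg, Int.natAbs_natCast, h]

theorem split_two_prime {f a b q : ℕ} (hq : q.Prime) (hq2 : q ≠ 2) (h3 : ¬ 3 ∣ f)
    (h : f ∣ 9 * 2 ^ a * q ^ b) : ∃ i j, f = 2 ^ i * q ^ j := by
  have h' : f ∣ 2 ^ a * q ^ b := by
    refine Nat.Coprime.dvd_of_dvd_mul_left ?_ (by rwa [mul_assoc] at h : f ∣ 9 * (2 ^ a * q ^ b))
    exact ((Nat.prime_three.coprime_iff_not_dvd.2 h3).pow_left 2).symm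
  obtain ⟨x, y, hx, hy, rfl⟩ := (Nat.dvd_mul).1 h'
  obtain ⟨i, -, rfl⟩ := (Nat.dvd_prime_pow Nat.prime_two).1 hx
  obtain ⟨j, -, rfl⟩ := (Nat.dvd_prime_pow hq).1 hy
  exact ⟨i, j, rfl⟩

/-- the degrees are `q` and a power of 2 -/
theorem degree_arith {f g a b q : ℕ} (hq : q.Prime) (hq2 : q ≠ 2) (hq3 : q ≠ 3) (hfg : f = g + 1)
    (hg : 2 ≤ g) (hf3 : ¬ 3 ∣ f) (hg3 : ¬ 3 ∣ g) (hfd : f ∣ 9 * 2 ^ a * q ^ b)
    (hgd : g ∣ 9 * 2 ^ a * q ^ b) :
    ∃ n, (f = q ∧ g = 2 ^ n) ∨ (g = q ∧ f = 2 ^ n) := by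
  have hq5 : 5 ≤ q := by
    have := hq.two_le
    by_contra h
    interval_cases q <;> norm_num at hq <;> omega
  have hqodd : ¬ 2 ∣ q := fun h2 => hq2 ((Nat.prime_dvd_prime_iff_eq Nat.prime_two hq).1 h2).symm
  obtain ⟨i, j, rfl⟩ := split_two_prime hq hq2 hf3 hfd
  obtain ⟨i', j', rfl⟩ := split_two_prime hq hq2 hg3 hgd
  rcases Nat.eq_zero_or_pos i with rfl | hi
  · rw [pow_zero, one_mul] at hfg ⊢
    have hj : j ≠ 0 := fun e => by rw [e, pow_zero] at hfg; omega
    have hi' : i' ≠ 0 := fun e => by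
      rw [e, pow_zero, one_mul] at hfg
      have : ¬ 2 ∣ q ^ j := fun h2 => hqodd (Nat.prime_two.dvd_of_dvd_pow h2)
      have : ¬ 2 ∣ q ^ j' := fun h2 => hqodd (Nat.prime_two.dvd_of_dvd_pow h2)
      omega
    have hj' : j' = 0 := by
      by_contra hj'
      have h1 : q ∣ q ^ j := dvd_pow_self q hj
      have h2 : q ∣ 2 ^ i' * q ^ j' := (dvd_pow_self q hj').mul_left _
      rw [hfg] at h1
      exact hq.not_dvd_one ((Nat.dvd_add_right h2).1 h1)
    subst hj'
    rw [pow_zero, mul_one] at hfg ⊢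
    have := exponent_one hq hq5 hj (Or.inl hfg)
    subst this
    exact ⟨i', Or.inl ⟨pow_one q, rfl⟩⟩
  · have hi' : i' = 0 := by
      by_contra hi'
      have h1 : 2 ∣ 2 ^ i * q ^ j := (dvd_pow_self 2 hi.ne').mul_right _
      have h2 : 2 ∣ 2 ^ i' * q ^ j' := (dvd_pow_self 2 hi').mul_right _
      rw [hfg] at h1
      exact Nat.prime_two.not_dvd_one ((Nat.dvd_add_right h2).1 h1)
    subst hi'
    rw [pow_zero, one_mul] at hfg hg ⊢
    have hj' : j' ≠ 0 := fun e => by rw [e, pow_zero] at hg; omega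
    have hj : j = 0 := by
      by_contra hj
      have h1 : q ∣ 2 ^ i * q ^ j := (dvd_pow_self q hj).mul_left _
      have h2 : q ∣ q ^ j' := dvd_pow_self q hj'
      rw [hfg] at h1
      exact hq.not_dvd_one ((Nat.dvd_add_right h2).1 h1)
    subst hj
    rw [pow_zero, mul_one] at hfg ⊢
    have := exponent_one hq hq5 hj' (Or.inr hfg.symm)
    subst this
    exact ⟨i, Or.inr ⟨pow_one q, rfl⟩⟩

/-- the small degree pairs -/
theorem pair_small {u v a : ℕ} (hu : 2 ≤ u) (hv : 2 ≤ v) (huv : u = v + 1 ∨ v = u + 1)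
    (hud : u ∣ 9 * 2 ^ a) (hvd : v ∣ 9 * 2 ^ a) : u ≤ 9 ∧ v ≤ 9 := by
  have odd9 : ∀ x, ¬ 2 ∣ x → x ∣ 9 * 2 ^ a → x ∣ 9 := fun x hx hd =>
    ((Nat.coprime_two_right.2 (Nat.odd_iff.2 (by omega))).pow_right a).dvd_of_dvd_mul_right hd
  have cases9 : ∀ x, x ∣ 9 → x = 1 ∨ x = 3 ∨ x = 9 := fun x hx => by
    have := Nat.le_of_dvd (by norm_num) hx
    interval_cases x <;> norm_num at hx <;> omega
  have even10 : ∀ x, x ∣ 9 * 2 ^ a → x ≠ 10 := fun x hd e => by
    subst e
    have : 5 ∣ 9 * 2 ^ a := (by norm_num : 5 ∣ 10).trans hd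
    rcases (by norm_num : Nat.Prime 5).dvd_mul.1 this with h | h
    · norm_num at h
    · norm_num [Nat.prime_dvd_prime_iff_eq] at h
      exact absurd ((by norm_num : Nat.Prime 5).dvd_of_dvd_pow h) (by norm_num)
  have := even10 u hud
  have := even10 v hvd
  by_cases h2 : 2 ∣ u
  · rcases cases9 v (odd9 v (by omega) hvd) with e | e | e <;> omega
  · rcases cases9 u (odd9 u h2 hud) with e | e | e <;> omega

variable {G : Type*} [Group G] [Finite G] [IsSimpleGroup G]

theorem order_of_prime_degree_large (hG : ¬ IsMulCommutative G) {a q n : ℕ} (hq : q.Prime)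
    (hq11 : 11 ≤ q) (hn : q = 2 ^ n + 1 ∨ q + 1 = 2 ^ n) (hcard : Nat.card G = 9 * 2 ^ a * q) :
    Nonempty (G ≃* Matrix.ProjectiveSpecialLinearGroup (Fin 2) (ZMod 17)) := by
  have hcyc : ¬ IsCyclic G := fun h => hG ⟨⟨(IsCyclic.commGroup (α := G)).mul_comm⟩⟩
  have hodd9 : ¬ 2 ∣ 9 := by norm_num
  rcases S0997.result hcyc q 2 a 9 hq Nat.prime_two (by omega) (by rw [hcard]; ring) (by omega) with
    ⟨m, F, hFf, hFt, hFc, hm, ⟨e⟩⟩ | ⟨m, F, hFf, hFt, hFc, hm, -, ⟨e⟩⟩
  · have hc := PSL2.card_psl_mul (F := F)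
    rw [Nat.card_eq_fintype_card, hFc, show Nat.gcd 2 (q - 1) = 2 from
      Nat.gcd_eq_left (by have := hq.odd_of_ne_two (by omega); rcases this with ⟨c, rfl⟩; omega),
      ← Nat.card_congr e.toEquiv, hcard] at hc
    have h2 : 2 ^ (a + 1) * 9 = (q + 1) * (q - 1) := by
      refine Nat.eq_of_mul_eq_mul_left hq.pos ?_
      rw [← hc]; ring
    have h17 : q = 17 := by
      rcases hm with rfl | rfl
      · obtain ⟨k, rfl⟩ : ∃ k, m = k + 2 := ⟨m - 2, by
          have : 8 ≤ 2 ^ m := by omega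
          have : 2 < m := (Nat.pow_lt_pow_iff_right (by norm_num : 1 < 2)).1 (by omega)
          omega⟩
        have e2 : (2 ^ (k + 2) + 1 + 1) * (2 ^ (k + 2) + 1 - 1) =
            2 ^ (k + 3) * (2 ^ (k + 1) + 1) := by
          rw [Nat.add_sub_cancel]; ring
        obtain ⟨-, h9⟩ := odd_eq_of_mul hodd9 (by
          have : 2 ∣ 2 ^ (k + 1) := dvd_pow_self 2 (Nat.succ_ne_zero k)
          omega) (h2.trans e2)
        have : 2 ^ (k + 1) = 2 ^ 3 := by omega
        have := Nat.pow_right_injective le_rfl this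
        rw [show k + 2 = 4 by omega]
        norm_num
      · obtain ⟨k, rfl⟩ : ∃ k, m = k + 2 := ⟨m - 2, by
          have : 12 ≤ 2 ^ m := by omega
          have : 2 < m := (Nat.pow_lt_pow_iff_right (by norm_num : 1 < 2)).1 (by omega)
          omega⟩
        have h1 : 1 ≤ 2 ^ (k + 1) := Nat.one_le_two_pow
        have e2 : (2 ^ (k + 2) - 1 + 1) * (2 ^ (k + 2) - 1 - 1) =
            2 ^ (k + 3) * (2 ^ (k + 1) - 1) := by
          obtain ⟨c, hc⟩ := Nat.exists_eq_add_of_le h1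
          rw [hc, Nat.add_sub_cancel_left, show 2 ^ (k + 2) = 2 * (1 + c) by rw [← hc]; ring,
            show 2 ^ (k + 3) = 4 * (1 + c) by rw [← hc]; ring,
            show 2 * (1 + c) - 1 + 1 = 2 * (1 + c) by omega,
            show 2 * (1 + c) - 1 - 1 = 2 * c by omega]
          ring
        obtain ⟨-, h9⟩ := odd_eq_of_mul hodd9 (by
          have : 2 ∣ 2 ^ (k + 1) := dvd_pow_self 2 (Nat.succ_ne_zero k)
          omega) (h2.trans e2)
        have h10 : 2 ^ (k + 1) = 10 := by omega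
        have : k + 1 < 4 := (Nat.pow_lt_pow_iff_right (by norm_num : 1 < 2)).1 (by omega)
        have : k < 3 := by omega
        interval_cases k <;> norm_num at h10
    subst h17
    have ha : a = 4 := by
      have h2' : 2 ^ (a + 1) = 2 ^ 5 := by norm_num at h2 ⊢; omega
      have := Nat.pow_right_injective le_rfl h2'
      omega
    subst ha
    haveI : Fact (Nat.Prime 17) := ⟨by norm_num⟩
    exact S1020.result (by rw [hcard]; norm_num) (F := ZMod 17) (ZMod.card 17)
  · exfalso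
    have hm1 : m ≠ 0 := fun e => by rw [e] at hm; omega
    have heven : Even (Nat.card F) := by
      rw [Nat.card_eq_fintype_card, hFc]; exact even_iff_two_dvd.2 (dvd_pow_self 2 hm1)
    have hc := GLOrder.card_PSL_two_of_even (F := F) heven
    have hc' := PSL2.card_psl_mul (F := F)
    rw [Nat.card_eq_fintype_card, hFc, show Nat.gcd 2 (2 ^ m - 1) = 1 from by
      have : 2 ∣ 2 ^ m := dvd_pow_self 2 hm1
      have := Nat.one_le_two_pow (n := m)
      exact Nat.coprime_two_left.2 (Nat.odd_iff.2 (by omega)), one_mul,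
      ← Nat.card_congr e.toEquiv, hcard, hm] at hc'
    have h2 : 2 ^ a * 9 = 2 ^ m * (2 ^ m - 1) := by
      refine Nat.eq_of_mul_eq_mul_left (Nat.succ_pos (2 ^ m)) ?_
      rw [show Nat.succ (2 ^ m) = 2 ^ m + 1 from rfl]
      linarith
    obtain ⟨-, h9⟩ := odd_eq_of_mul hodd9 (by
      have : 2 ∣ 2 ^ m := dvd_pow_self 2 hm1
      have := Nat.one_le_two_pow (n := m)
      omega) h2
    have h10 : 2 ^ m = 10 := by omega
    have : m < 4 := (Nat.pow_lt_pow_iff_right (by norm_num : 1 < 2)).1 (by omega)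
    interval_cases m <;> norm_num at h10

theorem nine_two_pow_mod {a : ℕ} (q : ℕ) (hq : q = 5 ∨ q = 7) (ha : a ≤ 7) :
    (∀ d, d * 2 = 9 * 2 ^ a → d % q = 1 → q = 5 ∧ (a = 3 ∨ a = 7) ∨ q = 7 ∧ (a = 3 ∨ a = 6)) ∧
      (q = 5 → ∀ d, d * 4 = 9 * 2 ^ a → d % 5 = 1 → a = 4) := by
  refine ⟨fun d h1 h2 => ?_, fun h5 d h1 h2 => ?_⟩ <;> rcases hq with rfl | rfl <;>
    interval_cases a <;> omega

theorem order_of_prime_degree_small (hG : ¬ IsMulCommutative G) {a q : ℕ} (hq : q = 5 ∨ q = 7)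
    (hcard : Nat.card G = 9 * 2 ^ a * q)
    (h4 : q = 5 → ∃ χ : G → ℂ, IsIrrCharacter G χ ∧ χ ≠ 1 ∧ IsRational χ ∧ χ 1 = 4) :
    Nat.card G = 360 ∨ Nat.card G = 504 := by
  have hqp : q.Prime := by rcases hq with rfl | rfl <;> norm_num
  have : Fact q.Prime := ⟨hqp⟩
  have hq29 : ¬ q ∣ 9 * 2 ^ a := fun h => by
    rcases hqp.dvd_mul.1 h with h | h
    · rcases hq with rfl | rfl <;> norm_num at h
    · have := (Nat.prime_dvd_prime_iff_eq hqp Nat.prime_two).1 (hqp.dvd_of_dvd_pow h)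
      omega
  have hfac : Nat.card G = q ^ 1 * (9 * 2 ^ a) := by rw [hcard]; ring
  have hP : ∀ P : Sylow q G, Nat.card (P : Subgroup G) = q := fun P => by
    rw [card_sylow_subgroup hfac hq29 P, pow_one]
  have hqG : q ∣ Nat.card G := ⟨9 * 2 ^ a, by rw [hcard]; ring⟩
  have hsq : ¬ q ^ 2 ∣ Nat.card G := by
    rw [hfac, pow_one, pow_two]
    exact fun h2 => hq29 (Nat.dvd_of_mul_dvd_mul_left hqp.pos h2)
  obtain ⟨x, hx⟩ := exists_prime_orderOf_dvd_card' (G := G) q hqG
  obtain ⟨P, hPx⟩ := exists_sylow_eq_zpowers hP hx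
  have hC : Nat.card (centralizer ({x} : Set G)) = q := by
    have h := S0904.result 3 2 q 2 a Nat.prime_three Nat.prime_two (by norm_num)
      (by omega) (by omega) (by rw [hcard]; ring) P
    have h' : centralizer ((P : Subgroup G) : Set G) = (P : Subgroup G) := h
    clear h
    rename' h' => h
    rw [hPx, centralizer_zpowers] at h
    rw [h, Nat.card_zpowers, hx]
  obtain ⟨j, hj1, hjd, hjN, -, -⟩ := exists_card_centralizer_mul hG hx P hPx
  rw [hC] at hjN
  have hNd := card_normalizer_mul_card_sylow P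
  rw [← hjN, hcard] at hNd
  set d := Nat.card (Sylow q G)
  have hd : d * j = 9 * 2 ^ a := by
    refine Nat.eq_of_mul_eq_mul_left hqp.pos ?_
    linarith
  have hmod : d % q = 1 := by
    have h := card_sylow_modEq_one q G
    rw [Nat.ModEq, Nat.one_mod_eq_one.2 hqp.ne_one] at h
    exact h
  have hN2 : Nat.card (normalizer (zpowers x : Set G)) = q * j := by rw [← hPx, ← hjN]
  have hjle : j ≤ q - 1 := Nat.le_of_dvd (by have := hqp.two_le; omega) hjd
  -- the degree equation when `|N : C| = 2`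
  have hform : j = 2 → a ≤ 7 ∧ (q = 5 → a ≤ 6) ∧ (q = 7 → a ≤ 5) := by
    intro hj
    subst hj
    obtain ⟨X, Y, hsol, -, hval⟩ := BlockDegrees.exists_formula hG (by omega) hx hsq hC hN2
    obtain ⟨-, hX, hYd, hY2, hYmod, hsum, -⟩ := hsol
    obtain ⟨hXd, hX2, hXmod⟩ := hX X (Multiset.mem_singleton_self X)
    rw [Multiset.sum_singleton] at hsum
    subst hsum
    obtain ⟨S, hS⟩ : ∃ S : Subgroup G, Nat.card S = 2 ^ a := by
      have : Fact (Nat.Prime 2) := ⟨Nat.prime_two⟩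
      exact Sylow.exists_subgroup_card_pow_prime 2 ⟨9 * q, by rw [hcard]; ring⟩
    have ha2 : a ≠ 0 := fun e => by
      rw [e] at hd
      have : 2 ∣ 9 * 2 ^ 0 := Dvd.intro_left d hd
      norm_num at this
    obtain ⟨t, ht, htS⟩ : ∃ t : G, orderOf t = 2 ∧ S ≤ centralizer ({t} : Set G) := by
      have : Fact (Nat.Prime 2) := ⟨Nat.prime_two⟩
      have hp : IsPGroup 2 S := IsPGroup.of_card hS
      have : Nontrivial S := Finite.one_lt_card_iff_nontrivial.1 (by
        rw [hS]; exact Nat.one_lt_two_pow ha2)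
      have hcen : 2 ∣ Nat.card (center S) := by
        obtain ⟨k, hk⟩ := IsPGroup.iff_card.1 (hp.to_subgroup (center S))
        have := hp.center_nontrivial
        rw [hk]
        refine dvd_pow_self 2 fun e => ?_
        rw [e, pow_zero] at hk
        exact absurd hk (Finite.one_lt_card.ne')
      obtain ⟨z, hz⟩ := exists_prime_orderOf_dvd_card' (G := center S) 2 hcen
      refine ⟨((z : S) : G), by rw [Subgroup.orderOf_coe, Subgroup.orderOf_coe, hz], fun s hs =>
        mem_centralizer_singleton_iff.2 ?_⟩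
      exact congrArg Subtype.val (mem_center_iff.1 z.2 ⟨s, hs⟩)
    obtain ⟨v, hv, hform⟩ := hval t ht
    set c := Nat.card (centralizer ({t} : Set G))
    have hc : 2 ^ a ≤ c := hS ▸ Nat.le_of_dvd Nat.card_pos (card_dvd_of_le htS)
    -- absolute values
    set u := X.natAbs
    set w := (1 + X).natAbs
    have hq0 : (q : ℤ) ≠ 0 := by exact_mod_cast hqp.ne_zero
    have hqu : ¬ q ∣ u := fun h => by
      have h' : (q : ℤ) ∣ X := Int.natCast_dvd.2 h
      rw [Int.emod_eq_zero_of_dvd h'] at hXmod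
      norm_num at hXmod
    have hqw : ¬ q ∣ w := fun h => by
      have h' : (q : ℤ) ∣ 1 + X := Int.natCast_dvd.2 h
      rw [Int.emod_eq_zero_of_dvd h'] at hYmod
      rcases hq with rfl | rfl <;> norm_num at hYmod
    have hud : u ∣ 9 * 2 ^ a :=
      ((hqp.coprime_iff_not_dvd.2 hqu).symm).dvd_of_dvd_mul_right (hcard ▸ hXd)
    have hwd : w ∣ 9 * 2 ^ a :=
      ((hqp.coprime_iff_not_dvd.2 hqw).symm).dvd_of_dvd_mul_right (hcard ▸ hYd)
    obtain ⟨hu9, hw9⟩ := pair_small hX2 (by omega) (by omega) hud hwd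
    have hXr : -9 ≤ X ∧ X ≤ 8 := by omega
    have hvr : -9 < v ∧ v < 9 := by omega
    rw [hcard] at hform
    push_cast at hform
    have hmain : X * (1 + X) * (c : ℤ) ^ 2 = 9 * 2 ^ a * (X - v) ^ 2 := by
      refine mul_left_cancel₀ hq0 ?_
      linear_combination hform
    have hXY : 0 ≤ X * (1 + X) := by
      rcases le_or_gt 0 X with h | h
      · positivity
      · nlinarith
    have hcge : ((2 : ℤ) ^ a) ^ 2 ≤ (c : ℤ) ^ 2 := by
      have : ((2 : ℤ) ^ a) ≤ c := by exact_mod_cast hc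
      nlinarith [pow_pos (two_pos : (0 : ℤ) < 2) a]
    have hpow : (0 : ℤ) < 2 ^ a := by positivity
    have hle : X * (1 + X) * 2 ^ a ≤ 9 * (X - v) ^ 2 := by
      have := mul_le_mul_of_nonneg_left hcge hXY
      nlinarith
    have hbound : ∀ N K : ℤ, 0 < N → N ≤ X * (1 + X) → 9 * (X - v) ^ 2 ≤ K →
        (2 : ℤ) ^ a * N ≤ K := fun N K hN h1 h2 => by nlinarith
    have hvX : v.natAbs < X.natAbs := hv
    have hbig : ∀ m : ℕ, (2 : ℤ) ^ a < 2 ^ m → a < m := fun m h =>
      (pow_lt_pow_iff_right₀ (by norm_num)).1 h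
    rcases hq with rfl | rfl
    · -- `X ≡ 1 (mod 5)`
      have hXv : X = -4 ∨ X = -9 ∨ X = 6 := by omega
      rcases hXv with rfl | rfl | rfl
      · have hv' : -4 < v ∧ v < 4 := by omega
        have := hbound 12 (9 * 64) (by norm_num) (by norm_num) (by nlinarith)
        have := hbig 6 (by linarith)
        omega
      · have := hbound 72 (9 * 324) (by norm_num) (by norm_num) (by nlinarith)
        have := hbig 6 (by linarith)
        omega
      · norm_num at hwd
        exfalso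
        exact absurd ((by norm_num : 7 ∣ w).trans (dvd_refl w) |>.trans hwd) (by
          intro h
          rcases (by norm_num : Nat.Prime 7).dvd_mul.1 h with h | h
          · norm_num at h
          · exact absurd ((by norm_num : Nat.Prime 7).dvd_of_dvd_pow h) (by norm_num))
    · have hXv : X = 8 ∨ X = -6 := by omega
      rcases hXv with rfl | rfl
      · have := hbound 72 (9 * 256) (by norm_num) (by norm_num) (by nlinarith)
        have := hbig 6 (by linarith)
        omega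
      · exfalso
        have h5 : 5 ∣ 9 * 2 ^ a := (by norm_num : 5 ∣ w).trans hwd
        rcases (by norm_num : Nat.Prime 5).dvd_mul.1 h5 with h | h
        · norm_num at h
        · exact absurd ((by norm_num : Nat.Prime 5).dvd_of_dvd_pow h) (by norm_num)
  rcases hq with rfl | rfl
  · have : j = 2 ∨ j = 4 := by
      interval_cases j <;> norm_num at hjd <;> norm_num
    rcases this with rfl | rfl
    · obtain ⟨h7, h6, -⟩ := hform rfl
      rcases (nine_two_pow_mod 5 (Or.inl rfl) h7).1 d hd hmod with ⟨-, rfl | rfl⟩ | ⟨h, -⟩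
      · exact Or.inl (by rw [hcard]; norm_num)
      · have := h6 rfl; omega
      · omega
    · obtain ⟨χ, hχ, hne, hrat, hdeg⟩ := h4 rfl
      have ha7 := pow_two_le_seven hG hχ hne hrat hdeg (a := a) ⟨9 * 5, by rw [hcard]; ring⟩
      have := (nine_two_pow_mod 5 (Or.inl rfl) ha7).2 rfl d hd hmod
      subst this
      exact absurd (by rw [hcard]; norm_num) (O720.card_ne hG)
  · have h236 : j = 2 ∨ j = 3 ∨ j = 6 := by
      interval_cases j <;> norm_num at hjd <;> norm_num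
    have h2a : ∀ i, 2 ^ i % 7 = 2 ^ (i % 3) % 7 := fun i => by
      conv_lhs => rw [← Nat.div_add_mod i 3, pow_add, pow_mul, Nat.mul_mod, Nat.pow_mod]
      norm_num
    rcases h236 with rfl | rfl | rfl
    · obtain ⟨h7, -, h5⟩ := hform rfl
      rcases (nine_two_pow_mod 7 (Or.inr rfl) h7).1 d hd hmod with ⟨h, -⟩ | ⟨-, rfl | rfl⟩
      · omega
      · exact Or.inr (by rw [hcard]; norm_num)
      · have := h5 rfl; omega
    · exfalso
      have := h2a a
      have hlt : a % 3 < 3 := Nat.mod_lt _ (by norm_num)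
      interval_cases h : a % 3 <;> omega
    · exfalso
      have := h2a a
      have hlt : a % 3 < 3 := Nat.mod_lt _ (by norm_num)
      interval_cases h : a % 3 <;> omega

theorem order_cases (hG : ¬ IsMulCommutative G) {q a b : ℕ} (hq : q.Prime) (hq2 : q ≠ 2)
    (hq3 : q ≠ 3) (hcard : Nat.card G = 9 * 2 ^ a * q ^ b) (hpair : HasDegreePair G) :
    Nat.card G = 360 ∨ Nat.card G = 504 ∨
      Nonempty (G ≃* Matrix.ProjectiveSpecialLinearGroup (Fin 2) (ZMod 17)) := by
  obtain ⟨s, t, hs1, ht1, hsr, htr, hs2, ht2, hs3, ht3, hst⟩ := hpair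
  have hdvd : ∀ χ : IrrCharacter G, charDegree (χ : G → ℂ) ∣ 9 * 2 ^ a * q ^ b := fun χ => by
    obtain ⟨n, -, hn, hd⟩ := Char.IsIrrCharacter.degree_dvd_card χ.2
    have : charDegree (χ : G → ℂ) = n := by
      rw [charDegree, hn, Complex.natCast_re, Nat.floor_natCast]
    rw [this, ← hcard]; exact hd
  obtain ⟨n, hn⟩ := degree_arith hq hq2 hq3 hst ht2 hs3 ht3 (hdvd s) (hdvd t)
  have hq5 : 5 ≤ q := by
    have := hq.two_le
    by_contra h
    interval_cases q <;> norm_num at hq <;> omega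
  obtain ⟨χ, ψ, hχq, hψ, hχ1, hχr, hψ1, hψr, hnq⟩ : ∃ χ ψ : IrrCharacter G,
      charDegree (χ : G → ℂ) = q ∧ charDegree (ψ : G → ℂ) = 2 ^ n ∧ (χ : G → ℂ) ≠ 1 ∧
        IsRational (χ : G → ℂ) ∧ (ψ : G → ℂ) ≠ 1 ∧ IsRational (ψ : G → ℂ) ∧
        (q = 2 ^ n + 1 ∨ q + 1 = 2 ^ n) := by
    rcases hn with ⟨h, h'⟩ | ⟨h, h'⟩
    · exact ⟨s, t, h, h', hs1, hsr, ht1, htr, by omega⟩
    · exact ⟨t, s, h, h', ht1, htr, hs1, hsr, by omega⟩
  have hdeg : (χ : G → ℂ) 1 = q := by rw [← Blocks.charDegree_cast, hχq]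
  have hb : b = 1 := by
    have h := factorization_eq_one hG hq χ.2 hχ1 hχr hdeg
    rw [hcard] at h
    have h9 : ¬ q ∣ 9 * 2 ^ a := fun h => by
      rcases hq.dvd_mul.1 h with h | h
      · exact hq3 ((Nat.prime_dvd_prime_iff_eq hq Nat.prime_three).1
          (hq.dvd_of_dvd_pow (show q ∣ 3 ^ 2 from h)))
      · exact hq2 ((Nat.prime_dvd_prime_iff_eq hq Nat.prime_two).1 (hq.dvd_of_dvd_pow h))
    rw [Nat.factorization_mul (by positivity) (pow_ne_zero _ hq.ne_zero), Finsupp.add_apply,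
      Nat.factorization_eq_zero_of_not_dvd h9, zero_add, hq.factorization_pow,
      Finsupp.single_eq_same] at h
    exact h
  subst hb
  rw [pow_one] at hcard
  by_cases h11 : 11 ≤ q
  · exact Or.inr (Or.inr (order_of_prime_degree_large hG hq h11 hnq hcard))
  · have h57 : q = 5 ∨ q = 7 := by
      interval_cases q <;> norm_num at hq <;> norm_num
    refine (order_of_prime_degree_small hG h57 hcard fun h => ⟨ψ, ψ.2, hψ1, hψr, ?_⟩).imp id Or.inl
    have h4 : 2 ^ n = 4 := by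
      rcases hnq with e | e
      · omega
      · exfalso
        have h6 : 2 ^ n = 6 := by omega
        have : n < 3 := (Nat.pow_lt_pow_iff_right (by norm_num : 1 < 2)).1 (by omega)
        interval_cases n <;> norm_num at h6
    rw [← Blocks.charDegree_cast, hψ, h4]
    norm_num

end Cfsg.Agent.SmallOrders.NineTwoPrimes
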