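-- Simple groups of order `9 * 2^a * q^b` with at least three classes of non-trivial 3-elements.
--
-- * `sylow_nine`: the Sylow 3-subgroups have order 9
-- * `three_classes_order`: `|G| = 504` or `G ≅ L₂(17)`
import Cfsg.Agent.Lib.SmallOrders.NineTwoPrimes.Automizer
import Cfsg.Agent.Lib.SmallOrders.NineTwoPrimes.CasesKlein
import Cfsg.Agent.Lib.SmallOrders.NineTwoPrimes.Orders
import Cfsg.Agent.Lib.SmallOrders.NineTwoPrimes.ClassesSix
import Cfsg.Agent.S0497
import Cfsg.Agent.S1011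

set_option autoImplicit false

namespace Cfsg.Agent.SmallOrders.NineTwoPrimes

open Cfsg Subgroup

variable {G : Type*} [Group G] [Finite G] [IsSimpleGroup G]

omit [Finite G] [IsSimpleGroup G] in
theorem not_three_dvd {q : ℕ} (hq : q.Prime) (hq3 : q ≠ 3) (a b : ℕ) : ¬ 3 ∣ 2 ^ a * q ^ b :=
  fun h => by
    rcases Nat.prime_three.dvd_mul.1 h with h | h
    · have := (Nat.prime_dvd_prime_iff_eq Nat.prime_three Nat.prime_two).1
        (Nat.prime_three.dvd_of_dvd_pow h)
      omega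
    · exact hq3 ((Nat.prime_dvd_prime_iff_eq Nat.prime_three hq).1
        (Nat.prime_three.dvd_of_dvd_pow h)).symm

theorem sylow_nine [Fact (Nat.Prime 3)] {q a b : ℕ} (hq : q.Prime) (hq3 : q ≠ 3)
    (hcard : Nat.card G = 9 * 2 ^ a * q ^ b) (R : Sylow 3 G) :
    Nat.card (R : Subgroup G) = 9 :=
  card_sylow_subgroup (p := 3) (e := 2) (show Nat.card G = 3 ^ 2 * (2 ^ a * q ^ b) by rw [hcard]; ring)
    (not_three_dvd hq hq3 a b) R

theorem three_classes_order (hG : ¬ IsMulCommutative G) {q a b : ℕ} (hq : q.Prime) (hq2 : q ≠ 2)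
    (hq3 : q ≠ 3) (hcard : Nat.card G = 9 * 2 ^ a * q ^ b)
    (h3 : ∀ p r : G, ∃ g : G, g ^ 9 = 1 ∧ g ≠ 1 ∧ ¬ IsConj g p ∧ ¬ IsConj g r) :
    Nat.card G = 504 ∨
      Nonempty (G ≃* Matrix.ProjectiveSpecialLinearGroup (Fin 2) (ZMod 17)) := by
  have : Fact (Nat.Prime 3) := ⟨Nat.prime_three⟩
  obtain ⟨R⟩ : Nonempty (Sylow 3 G) := inferInstance
  have hR := sylow_nine hq hq3 hcard R
  have hcard' : Nat.card G = 9 * (2 ^ a * q ^ b) := by rw [hcard]; ring
  have hM := not_three_dvd hq hq3 a b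
  have hpair : HasDegreePair G := by
    rcases automizer hG R hR h3 with hI | ⟨x, y, hK⟩
    · exact degreePair_of_inverted hG R hR hcard' hM hI
    · exact degreePair_of_klein hG hR hcard' hM hK
  rcases order_cases hG hq hq2 hq3 hcard hpair with h | h | h
  · exfalso
    obtain ⟨e⟩ := S0497.result h
    obtain ⟨p, r, hpr⟩ := two_classes
    obtain ⟨g, hg9, hg1, hgp, hgr⟩ := h3 (e.symm p) (e.symm r)
    have key : ∀ {z}, IsConj (e g) z → IsConj g (e.symm z) := fun {z} hz => by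
      have h := e.symm.toMonoidHom.map_isConj hz
      simpa using h
    rcases hpr (e g) (by rw [← map_pow, hg9, map_one])
      (fun h' => hg1 (e.injective (h'.trans (map_one e).symm))) with h' | h'
    · exact hgp (key h')
    · exact hgr (key h')
  · exact Or.inl h
  · exact Or.inr h

/-- three classes, in pointwise form -/
theorem exists_third_class
    (h3 : 3 ≤ Nat.card {C : ConjClasses G // ∃ g ∈ C.carrier, g ≠ 1 ∧ orderOf g ∣ 9}) (p r : G) :
    ∃ g : G, g ^ 9 = 1 ∧ g ≠ 1 ∧ ¬ IsConj g p ∧ ¬ IsConj g r := by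
  by_contra! h
  classical
  let f : {C : ConjClasses G // ∃ g ∈ C.carrier, g ≠ 1 ∧ orderOf g ∣ 9} → Bool :=
    fun C => decide (C.1 = ConjClasses.mk p)
  have hf : Function.Injective f := by
    intro C D hCD
    have key : ∀ E : {C : ConjClasses G // ∃ g ∈ C.carrier, g ≠ 1 ∧ orderOf g ∣ 9},
        E.1 = ConjClasses.mk p ∨ E.1 = ConjClasses.mk r := by
      rintro ⟨E, g, hgE, hg1, hg9⟩
      rw [ConjClasses.mem_carrier_iff_mk_eq] at hgE
      by_cases hgp : IsConj g p
      · exact Or.inl (hgE ▸ ConjClasses.mk_eq_mk_iff_isConj.2 hgp)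
      · exact Or.inr (hgE ▸ ConjClasses.mk_eq_mk_iff_isConj.2
          (h g (orderOf_dvd_iff_pow_eq_one.1 hg9) hg1 hgp))
    refine Subtype.ext ?_
    simp only [f, decide_eq_decide] at hCD
    rcases key C with hC | hC <;> rcases key D with hD | hD
    · rw [hC, hD]
    · rw [hC, hCD.1 hC]
    · rw [hCD.2 hD, hD]
    · rw [hC, hD]
  have := Nat.card_le_card_of_injective f hf
  rw [Nat.card_eq_fintype_card (α := Bool), Fintype.card_bool] at this
  omega

end Cfsg.Agent.SmallOrders.NineTwoPrimes
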